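import Cfsg.Agent.Ree.Twist.Setting
import Cfsg.Agent.Ree.Section.Coords

/-!
The section of the involution in `⟨t⟩ × E`: integrality and orthogonality of the coordinates and the count of pairs
of involutions (the proofs of `Ree/Section/Coords`, which do not use `E = E₀`).
-/

set_option autoImplicit false
set_option linter.style.haveILetI false
set_option linter.unusedSectionVars false

namespace Cfsg.Lib.Ree.Twist

open Cfsg Cfsg.Lib.Chars Cfsg.Lib.Blocks
open scoped ComplexConjugate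

universe u v

variable {G : Type u} [Group G] [Fintype G] {t : G} {E E₀ : Subgroup G} [Fintype E] {F : Type v} [Field F]
  [Fintype F] (S : Setting t E E₀ F)
include S

/-- Elements of `t E₂'` conjugate in `G` are conjugate only by the centralizer. -/
theorem Setting.commute_of_conj {x : G} {y y' : E} (hy : Odd (orderOf y)) (hy' : Odd (orderOf y'))
    (h : x * (t * y) * x⁻¹ = t * y') : Commute t x ∧ x * y * x⁻¹ = (y' : G) := by
  have h1 : IsPPart 2 (t * (y' : G)) (x * t * x⁻¹) := by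
    refine ⟨x * (y : G) * x⁻¹, ?_, ?_, ⟨1, ?_⟩, ?_⟩
    · rw [← h]; group
    · exact (S.hyp.comm _ y.2).map (MulAut.conj x).toMonoidHom
    · rw [show x * t * x⁻¹ = MulAut.conj x t from rfl, MulEquiv.orderOf_eq, S.hyp.ord, pow_one]
    · rw [show x * (y : G) * x⁻¹ = MulAut.conj x (y : G) from rfl, MulEquiv.orderOf_eq]
      exact S.not_dvd hy
  have h2 : IsPPart 2 (t * (y' : G)) t :=
    ⟨(y' : G), rfl, S.hyp.comm _ y'.2, ⟨1, by rw [S.hyp.ord, pow_one]⟩, S.not_dvd hy'⟩
  have hc : Commute t x := (mul_inv_eq_iff_eq_mul.1 (IsPPart.eq Nat.prime_two h1 h2)).symm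
  refine ⟨hc, mul_left_cancel (a := t) ?_⟩
  rw [← h, ← mul_assoc, ← mul_assoc, hc.eq, mul_assoc x t]

open scoped _root_.Classical in
/-- The column product on the section is twice the number of conjugating elements of `E`. -/
theorem Setting.sum_columns {y y' : E} (hy : Odd (orderOf y)) (hy' : Odd (orderOf y')) :
    ∑ χ : IrrCharacter G, (χ : G → ℂ) (t * y) * conj ((χ : G → ℂ) (t * y')) =
      2 * ((Finset.univ.filter fun e : E => e * y * e⁻¹ = y').card : ℂ) := by
  have hiff : ∀ c : G, c * (t * y) * c⁻¹ = t * y' ↔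
      c ∈ Subgroup.centralizer ({t} : Set G) ∧ c * y * c⁻¹ = (y' : G) := by
    intro c
    constructor
    · intro h
      obtain ⟨hc, h'⟩ := S.commute_of_conj hy hy' h
      exact ⟨S.mem_C.2 hc, h'⟩
    · rintro ⟨hc, h⟩
      rw [← mul_assoc, ← (S.mem_C.1 hc).eq, mul_assoc t, mul_assoc t, h]
  have hcard : (Finset.univ.filter fun c : G => c * (t * y) * c⁻¹ = t * y').card =
      2 * (Finset.univ.filter fun e : E => e * y * e⁻¹ = y').card := by
    rw [← Fintype.card_subtype, ← Fintype.card_subtype, ← Fintype.card_bool, ← Fintype.card_prod]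
    refine (Fintype.card_congr (Equiv.ofBijective (fun w : Bool × {e : E // e * y * e⁻¹ = y'} =>
      (⟨(if w.1 then t else 1) * (w.2.1 : G), (hiff _).2 ⟨(S.equivC (w.1, w.2.1)).2, ?_⟩⟩ :
        {c : G // c * (t * y) * c⁻¹ = t * y'})) ⟨?_, ?_⟩)).symm
    · have h := congrArg (Subtype.val : E → G) w.2.2
      simp only [Subgroup.coe_mul, Subgroup.coe_inv] at h
      cases w.1
      · simpa using h
      · simp only [if_true]
        rw [show t * (w.2.1 : G) * y * (t * (w.2.1 : G))⁻¹ = t * ((w.2.1 : G) * y * (w.2.1 : G)⁻¹) * t⁻¹ by group,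
          h, (S.hyp.comm _ y'.2).eq, mul_inv_cancel_right]
    · rintro ⟨b, e⟩ ⟨b', e'⟩ h
      have h' := S.equivC.injective (a₁ := (b, e.1)) (a₂ := (b', e'.1))
        (Subtype.ext (by have h1 := congrArg Subtype.val h; exact h1))
      simp only [Prod.mk.injEq] at h'
      exact Prod.ext h'.1 (Subtype.ext h'.2)
    · rintro ⟨c, hc⟩
      obtain ⟨hcC, hcy⟩ := (hiff c).1 hc
      obtain ⟨⟨b, e⟩, he⟩ := S.equivC.surjective ⟨c, hcC⟩
      have hec : (if b then t else 1) * (e : G) = c := congrArg Subtype.val he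
      refine ⟨(b, ⟨e, Subtype.ext ?_⟩), Subtype.ext hec⟩
      simp only [Subgroup.coe_mul, Subgroup.coe_inv]
      rw [← hec] at hcy
      cases b
      · simpa using hcy
      · simp only [if_true] at hcy
        rw [show t * (e : G) * y * (t * (e : G))⁻¹ = t * ((e : G) * y * (e : G)⁻¹) * t⁻¹ by group,
          show (y' : G) = t * y' * t⁻¹ by rw [(S.hyp.comm _ y'.2).eq, mul_inv_cancel_right]] at hcy
        exact mul_left_cancel (mul_right_cancel hcy)
  rw [second_orthogonality]
  split_ifs with hconj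
  · obtain ⟨x, hx⟩ := isConj_iff.1 hconj
    rw [show (2 : ℂ) = ((2 : ℕ) : ℂ) by norm_num, ← Nat.cast_mul, ← hcard, Nat.cast_inj,
      ← Fintype.card_subtype, ← Nat.card_eq_fintype_card]
    refine Nat.card_congr
      { toFun := fun c => ⟨x * c.1, ?_⟩
        invFun := fun c => ⟨x⁻¹ * c.1, ?_⟩
        left_inv := fun c => Subtype.ext (inv_mul_cancel_left x c.1)
        right_inv := fun c => Subtype.ext (mul_inv_cancel_left x c.1) }
    · have h := Subgroup.mem_centralizer_singleton_iff.1 c.2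
      rw [show x * c.1 * (t * y) * (x * c.1)⁻¹ = x * (c.1 * (t * y)) * c.1⁻¹ * x⁻¹ by group, h,
        show x * (t * y * c.1) * c.1⁻¹ * x⁻¹ = x * (t * y) * x⁻¹ by group, hx]
    · refine Subgroup.mem_centralizer_singleton_iff.2 ?_
      have h : c.1 * (t * y) * c.1⁻¹ = x * (t * y) * x⁻¹ := c.2.trans hx.symm
      calc x⁻¹ * c.1 * (t * y) = x⁻¹ * (c.1 * (t * y) * c.1⁻¹) * c.1 := by group
        _ = t * y * (x⁻¹ * c.1) := by rw [h]; group
  · rw [Finset.card_eq_zero.2 (Finset.filter_eq_empty_iff.2 fun e _ h => hconj ?_)]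
    · simp
    · exact isConj_iff.2 ⟨(e : G), (hiff _).2 ⟨S.E_le_C e.2, by
        simpa using congrArg (Subtype.val : E → G) h⟩⟩

theorem Setting.coord_int {ψ : E → ℂ} (hψ : IsSpecial ψ) (χ : IrrCharacter G) :
    ∃ z : ℤ, coord t E χ ψ = z := by
  letI := Fintype.ofFinite (Subgroup.centralizer ({t} : Set G))
  obtain ⟨z, hz⟩ := exists_int_expand hψ.2.1
  choose m hm using fun θ : IrrCharacter E => Cfsg.Lib.GW.Chr.exists_int_inner _ S.t_mem_C S.tt
    (fun w hw => S.mem_C.1 hw) (isCharacter_of_irr χ.2) E S.E_le_C θ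
  refine ⟨∑ θ, z θ * m θ, ?_⟩
  rw [coord, hz, classInner_expand]
  push_cast
  refine Finset.sum_congr rfl fun θ _ => ?_
  rw [← hm θ]
  rfl

theorem Setting.coord_apply (ψ : E → ℂ) (χ : IrrCharacter G) :
    coord t E χ ψ = (Nat.card E : ℂ)⁻¹ * ∑ y : E, (χ : G → ℂ) (t * y) * conj (ψ y) := by
  rw [coord, classInner_def]; rfl

open scoped _root_.Classical in
theorem Setting.sum_coord_mul {ψ : E → ℂ} (hψ : IsSpecial ψ) {y' : E} (hy' : Odd (orderOf y')) :
    ∑ χ : IrrCharacter G, coord t E χ ψ * conj ((χ : G → ℂ) (t * y')) = 2 * conj (ψ y') := by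
  simp only [S.coord_apply, Finset.mul_sum, Finset.sum_mul]
  rw [Finset.sum_comm]
  have h1 : ∀ y : E, ∑ χ : IrrCharacter G,
      (Nat.card E : ℂ)⁻¹ * ((χ : G → ℂ) (t * y) * conj (ψ y)) * conj ((χ : G → ℂ) (t * y')) =
      (Nat.card E : ℂ)⁻¹ * 2 * ∑ e : E, if e * y * e⁻¹ = y' then conj (ψ y') else 0 := by
    intro y
    by_cases hy : Odd (orderOf y)
    · have e : ∀ χ : IrrCharacter G,
          (Nat.card E : ℂ)⁻¹ * ((χ : G → ℂ) (t * y) * conj (ψ y)) * conj ((χ : G → ℂ) (t * y')) =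
            (Nat.card E : ℂ)⁻¹ * conj (ψ y) * ((χ : G → ℂ) (t * y) * conj ((χ : G → ℂ) (t * y'))) :=
        fun χ => by ring
      rw [Finset.sum_congr rfl fun χ _ => e χ, ← Finset.mul_sum,
        S.sum_columns hy hy', ← Finset.sum_filter, Finset.sum_const, nsmul_eq_mul]
      by_cases hne : (Finset.univ.filter fun e : E => e * y * e⁻¹ = y').Nonempty
      · obtain ⟨e, he⟩ := hne
        rw [show ψ y' = ψ y by rw [← (Finset.mem_filter.1 he).2]; exact hψ.1 y e]
        ring
      · rw [Finset.not_nonempty_iff_eq_empty.1 hne]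
        simp
    · rw [Finset.sum_congr rfl fun χ _ => show _ = (0 : ℂ) by rw [hψ.2.2 y hy]; simp, Finset.sum_const_zero,
        Finset.sum_eq_zero fun e _ => if_neg fun h => hy ?_, mul_zero]
      rw [← h, ← MulAut.conj_apply, MulEquiv.orderOf_eq] at hy'
      exact hy'
  rw [Finset.sum_congr rfl fun y _ => h1 y, ← Finset.mul_sum, Finset.sum_comm,
    Finset.sum_congr rfl (g := fun _ => conj (ψ y')) fun e _ => ?_, Finset.sum_const, Finset.card_univ,
    nsmul_eq_mul, ← Nat.card_eq_fintype_card]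
  · have : (Nat.card E : ℂ) ≠ 0 := by exact_mod_cast Nat.card_pos.ne'
    field_simp
  · rw [Finset.sum_eq_single (e⁻¹ * y' * e) (fun y _ hy => if_neg fun h => hy (by rw [← h]; group))
      (fun h => absurd (Finset.mem_univ _) h), if_pos (by group)]

theorem Setting.isometry {ψ φ : E → ℂ} (hψ : IsSpecial ψ) (hφ : IsSpecial φ) :
    ∑ χ : IrrCharacter G, coord t E χ ψ * conj (coord t E χ φ) = 2 * classInner ψ φ := by
  have e : ∀ χ : IrrCharacter G, conj (coord t E χ φ) =
      (Nat.card E : ℂ)⁻¹ * ∑ y : E, conj ((χ : G → ℂ) (t * y)) * φ y := fun χ => by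
    rw [S.coord_apply, map_mul, map_inv₀, map_natCast, map_sum]
    simp only [map_mul, Complex.conj_conj]
  rw [Finset.sum_congr rfl fun χ _ => by rw [e χ, Finset.mul_sum, Finset.mul_sum], Finset.sum_comm,
    ← conj_classInner_gen hψ.2.1 hφ.2.1, classInner_def, map_mul, map_inv₀, map_natCast, map_sum,
    Finset.mul_sum, Finset.mul_sum]
  refine Finset.sum_congr rfl fun y _ => ?_
  rw [map_mul, Complex.conj_conj]
  by_cases hy : Odd (orderOf y)
  · rw [Finset.sum_congr rfl fun χ _ => show _ = (Nat.card E : ℂ)⁻¹ * φ y *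
        (coord t E χ ψ * conj ((χ : G → ℂ) (t * y))) by ring, ← Finset.mul_sum, S.sum_coord_mul hψ hy]
    ring
  · rw [hφ.2.2 y hy]; simp

theorem Setting.section_sum {ψ : E → ℂ} (hψ : IsSpecial ψ) {y : E} (hy : Odd (orderOf y)) :
    ∑ χ : IrrCharacter G, coord t E χ ψ * (χ : G → ℂ) (t * (y : G)) = 2 * ψ y := by
  have hy' : Odd (orderOf y⁻¹) := by rwa [orderOf_inv]
  have h := S.sum_coord_mul hψ hy'
  rw [conj_apply_gen hψ.2.1, inv_inv] at h
  rw [← h]
  refine Finset.sum_congr rfl fun χ _ => ?_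
  rw [← IsCharacter.conj_inv (isCharacter_of_irr χ.2), Subgroup.coe_inv, mul_inv_rev, S.hyp.t_inv, inv_inv,
    (S.hyp.comm _ y.2).eq]

theorem Setting.odd_sum {ψ : E → ℂ} (hψ : IsSpecial ψ) {g : G} (hg : Odd (orderOf g)) :
    ∑ χ : IrrCharacter G, coord t E χ ψ * (χ : G → ℂ) g = 0 := by
  classical
  simp only [S.coord_apply, Finset.mul_sum, Finset.sum_mul]
  rw [Finset.sum_comm]
  refine Finset.sum_eq_zero fun y _ => ?_
  by_cases hy : Odd (orderOf y)
  · have e : ∀ χ : IrrCharacter G,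
        (Nat.card E : ℂ)⁻¹ * ((χ : G → ℂ) (t * y) * conj (ψ y)) * (χ : G → ℂ) g =
          (Nat.card E : ℂ)⁻¹ * conj (ψ y) * ((χ : G → ℂ) (t * y) * conj ((χ : G → ℂ) g⁻¹)) := fun χ => by
      rw [← IsCharacter.conj_inv (isCharacter_of_irr χ.2), inv_inv]; ring
    rw [Finset.sum_congr rfl fun χ _ => e χ, ← Finset.mul_sum, second_orthogonality, if_neg, mul_zero]
    intro h
    obtain ⟨c, hc⟩ := isConj_iff.1 h
    have ho : orderOf (t * (y : G)) = orderOf g := by
      rw [← orderOf_inv g, ← hc, ← MulAut.conj_apply, MulEquiv.orderOf_eq]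
    have hmul := (S.hyp.comm _ y.2).orderOf_mul_eq_mul_orderOf_of_coprime
      (by rw [S.hyp.ord, S.orderOf_coe]; exact Nat.coprime_two_left.2 hy)
    rw [ho, S.hyp.ord] at hmul
    rw [hmul] at hg
    exact (Nat.not_odd_iff_even.2 (even_two_mul _)) hg
  · rw [hψ.2.2 y hy]; simp

open scoped _root_.Classical in
/-- The pairs of involutions with product in the section. -/
theorem Setting.card_pairs {y : E} (hy : Odd (orderOf y)) :
    (Nat.card {p : G × G // IsConj t p.1 ∧ IsConj t p.2 ∧ p.1 * p.2 = t * (y : G)} : ℂ) = pairCount y := by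
  rw [Cfsg.Lib.Dihedral.card_pairs_eq S.hyp.ord (fun s hs => S.conj_all hs)]
  rw [show pairCount y = ((2 * Nat.card {w : E // orderOf w = 2 ∧ (w * y) * (w * y) = 1} : ℕ) : ℂ) by
    rw [pairCount]; push_cast; rfl, Nat.cast_inj]
  have h2 : ∀ α : Type u, 2 * Nat.card α = Nat.card (Bool × α) := fun α => by
    rw [Nat.card_prod, Nat.card_eq_fintype_card (α := Bool), Fintype.card_bool]
  rw [h2]
  have hfix : ∀ x : E, t * (x : G) * t = x := fun x => by
    rw [(S.hyp.comm _ x.2).eq, mul_assoc, S.tt, mul_one]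
  have hmk : ∀ {w : E}, orderOf w = 2 → (w * y) * (w * y) = 1 → ∀ b : Bool,
      let s := (if b then t else 1) * (w : G)
      s * s = 1 ∧ s ≠ 1 ∧ (s * (t * y)) * (s * (t * y)) = 1 ∧ s * (t * y) ≠ 1 := by
    intro w hw hwy b
    have hww : (w : G) * w = 1 := by
      rw [← pow_two, ← hw, ← S.orderOf_coe, pow_orderOf_eq_one]
    have hwy' : ((w : G) * y) * ((w : G) * y) = 1 := by simpa using congrArg (Subtype.val : E → G) hwy
    have hw1 : (w : G) ≠ 1 := fun e => by rw [← S.orderOf_coe, e, orderOf_one] at hw; omega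
    have hne : (w : G) * y ≠ 1 := fun e => by
      have : y = w⁻¹ := Subtype.ext (eq_inv_of_mul_eq_one_right e)
      rw [this, orderOf_inv, hw] at hy
      exact absurd hy (by decide)
    have hnt : t * ((w : G) * y) ≠ 1 := fun e =>
      S.split_unique (one_mem E) (mul_mem w.2 y.2) e.symm
    have hcw := (S.hyp.comm _ w.2).eq
    have hw2 : t * (w : G) * (t * (w : G)) = 1 := by
      rw [show t * (w : G) * (t * (w : G)) = t * (w : G) * t * w by group, hfix, hww]
    have e1 : (w : G) * (t * y) = t * ((w : G) * y) := by rw [← mul_assoc, ← hcw, mul_assoc]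
    have e2 : t * (w : G) * (t * y) = (w : G) * y := by rw [← mul_assoc, hfix]
    cases b
    · simp only [Bool.false_eq_true, if_false, one_mul]
      refine ⟨hww, hw1, ?_, by rw [e1]; exact hnt⟩
      have hf := hfix (w * y)
      rw [Subgroup.coe_mul] at hf
      rw [e1, ← mul_assoc (t * ((w : G) * y)), hf, hwy']
    · simp only [if_true]
      exact ⟨hw2, fun e => S.split_unique (one_mem E) w.2 e.symm, by rw [e2]; exact hwy', by rw [e2]; exact hne⟩
  symm
  refine Nat.card_congr (Equiv.ofBijective (fun w : Bool × {w : E // orderOf w = 2 ∧ (w * y) * (w * y) = 1} =>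
    (⟨(if w.1 then t else 1) * (w.2.1 : G), hmk w.2.2.1 w.2.2.2 w.1⟩ :
      {s : G // s * s = 1 ∧ s ≠ 1 ∧ (s * (t * y)) * (s * (t * y)) = 1 ∧ s * (t * y) ≠ 1})) ⟨?_, ?_⟩)
  · rintro ⟨b, w⟩ ⟨b', w'⟩ h
    have h' := S.equivC.injective (a₁ := (b, w.1)) (a₂ := (b', w'.1)) (Subtype.ext (by have h1 := congrArg Subtype.val h; exact h1))
    simp only [Prod.mk.injEq] at h'
    exact Prod.ext h'.1 (Subtype.ext h'.2)
  · rintro ⟨s, hs, hs1, hsy, hsy1⟩
    have hsinv : s⁻¹ = s := inv_eq_of_mul_eq_one_right hs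
    have hconj : s * (t * y) * s⁻¹ = t * (y⁻¹ : E) := by
      rw [hsinv, Subgroup.coe_inv]
      have h1 : s * (t * y) * s = (t * (y : G))⁻¹ := eq_inv_of_mul_eq_one_left (by rw [← hsy]; group)
      rw [h1, mul_inv_rev, S.hyp.t_inv, (S.hyp.comm _ (inv_mem y.2)).eq]
    obtain ⟨hst, hsy'⟩ := S.commute_of_conj hy (by rwa [orderOf_inv]) hconj
    rw [Subgroup.coe_inv, hsinv] at hsy'
    obtain ⟨⟨b, w⟩, hw⟩ := S.equivC.surjective ⟨s, S.mem_C.2 hst⟩
    have hws : (if b then t else 1) * (w : G) = s := congrArg Subtype.val hw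
    have hb : ∀ x : E, (if b then t else 1) * (x : G) * (if b then t else 1) = x := fun x => by
      cases b <;> simp [hfix]
    have hww : (w : G) * w = 1 := by
      rw [← hs, ← hws, show ((if b then t else 1) * (w : G)) * ((if b then t else 1) * (w : G)) =
        (if b then t else 1) * (w : G) * (if b then t else 1) * w by group, hb]
    have hwy : ((w : G) * y) * ((w : G) * y) = 1 := by
      have h1 : (w : G) * y * w = (y : G)⁻¹ := by
        have hbc : (if b then t else 1) * (w : G) = (w : G) * (if b then t else 1) := by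
          cases b
          · simp
          · simpa using (S.hyp.comm _ w.2).eq
        have hf := hb (w * y * w)
        simp only [Subgroup.coe_mul] at hf
        rw [← hsy', ← hws]
        conv_rhs => arg 2; rw [hbc]
        rw [show (if b then t else 1) * (w : G) * y * ((w : G) * (if b then t else 1)) =
          (if b then t else 1) * ((w : G) * y * w) * (if b then t else 1) by group, hf]
      rw [← mul_assoc, h1, inv_mul_cancel]
    have hw1 : (w : G) ≠ 1 := fun e => by
      rw [e, mul_one] at hws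
      rw [e, one_mul] at hwy
      have hy1 : (y : G) = 1 := orderOf_eq_one_iff.1 (Nat.Coprime.eq_one_of_dvd (Nat.coprime_two_right.2 (by rwa [S.orderOf_coe]))
        (orderOf_dvd_of_pow_eq_one (by rw [pow_two, hwy])))
      cases b
      · exact hs1 hws.symm
      · exact hsy1 (by rw [← hws, hy1, mul_one]; simp [S.tt])
    refine ⟨(b, ⟨w, ?_, Subtype.ext (by simpa using hwy)⟩), Subtype.ext hws⟩
    rw [← S.orderOf_coe]
    exact orderOf_eq_prime (by rw [pow_two, hww]) hw1

theorem Setting.count {ψ : E → ℂ} (hψ : IsSpecial ψ) :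
    ∑ χ : IrrCharacter G, (χ : G → ℂ) t ^ 2 * coord t E χ (fun y => conj (ψ y)) / (χ : G → ℂ) 1 =
      (Nat.card (Subgroup.centralizer ({t} : Set G)) : ℂ) ^ 2 / (Nat.card G : ℂ) * classInner pairCount ψ := by
  classical
  have hidx : (Nat.card G : ℂ) = (Subgroup.centralizer ({t} : Set G)).index *
      Nat.card (Subgroup.centralizer ({t} : Set G)) := by
    rw [← Nat.cast_mul, Subgroup.index_mul_card]
  have hC0 : (Nat.card (Subgroup.centralizer ({t} : Set G)) : ℂ) ≠ 0 := by exact_mod_cast Nat.card_pos.ne'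
  have hi0 : ((Subgroup.centralizer ({t} : Set G)).index : ℂ) ≠ 0 := by
    exact_mod_cast Subgroup.index_ne_zero_of_finite
  have hkey : ∀ y : E, Odd (orderOf y) →
      ∑ χ : IrrCharacter G, (χ : G → ℂ) t ^ 2 * (χ : G → ℂ) (t * (y : G)) / (χ : G → ℂ) 1 =
        (Nat.card (Subgroup.centralizer ({t} : Set G)) : ℂ) ^ 2 / (Nat.card G : ℂ) * pairCount y⁻¹ := by
    intro y hy
    have e : ∀ χ : IrrCharacter G, (χ : G → ℂ) t ^ 2 * (χ : G → ℂ) (t * (y : G)) / (χ : G → ℂ) 1 =
        (χ : G → ℂ) t * (χ : G → ℂ) t * conj ((χ : G → ℂ) (t * ((y⁻¹ : E) : G))) / (χ : G → ℂ) 1 := fun χ => by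
      rw [← IsCharacter.conj_inv (isCharacter_of_irr χ.2), Subgroup.coe_inv, mul_inv_rev, inv_inv, S.hyp.t_inv,
        (S.hyp.comm _ y.2).eq, pow_two]
    rw [← S.card_pairs (y := y⁻¹) (by rwa [orderOf_inv]), class_mult_formula, card_isConj,
      Finset.sum_congr rfl fun χ _ => e χ, hidx]
    field_simp
  simp only [S.coord_apply, Complex.conj_conj, Finset.mul_sum, Finset.sum_div]
  rw [Finset.sum_comm, classInner_def, ← Equiv.sum_comp (Equiv.inv E) (fun g => pairCount g * conj (ψ g)),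
    Finset.mul_sum, Finset.mul_sum]
  refine Finset.sum_congr rfl fun y _ => ?_
  rw [Equiv.inv_apply, conj_apply_gen hψ.2.1, inv_inv]
  by_cases hy : Odd (orderOf y)
  · have e : ∀ χ : IrrCharacter G,
        (χ : G → ℂ) t ^ 2 * ((Nat.card E : ℂ)⁻¹ * ((χ : G → ℂ) (t * y) * ψ y)) / (χ : G → ℂ) 1 =
          (Nat.card E : ℂ)⁻¹ * ψ y * ((χ : G → ℂ) t ^ 2 * (χ : G → ℂ) (t * (y : G)) / (χ : G → ℂ) 1) :=
      fun χ => by ring
    rw [Finset.sum_congr rfl fun χ _ => e χ, ← Finset.mul_sum, hkey y hy]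
    ring
  · rw [hψ.2.2 y hy]; simp

end Cfsg.Lib.Ree.Twist
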