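import Cfsg.Agent.Ree.PSL.Spec
import Cfsg.Agent.Blocks.KleinFour

/-!
# The functions of the principal block of a group with four-group Sylow 2-subgroups and one class of involutions

`ps i` are the four members with their signs at the involutions, so that they sum to zero on the elements of odd
order; `x = ps 1 - ps 0`, `al = ps 1 - ps 2`, `be = ps 1 - ps 3` vanish on the elements of even order and `(-1, -ps 2,
-ps 3)` is dual to them.
-/

set_option autoImplicit false
set_option linter.unusedSectionVars false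
set_option linter.style.haveILetI false

namespace Cfsg.Lib.Ree.Twist

open Cfsg Cfsg.Lib.Chars Cfsg.Lib.Blocks
open scoped ComplexConjugate

universe u

variable {X : Type u} [Group X] [Fintype X]

/-- The signed members of the principal block. -/
structure KTable (X : Type u) [Group X] [Fintype X] (M : Ideal AlgInt) where
  mem : Fin 4 → IrrCharacter X
  sg : Fin 4 → ℤ
  inj : Function.Injective mem
  block : ∀ χ, χ ∈ principalBlock M X ↔ ∃ i, mem i = χ
  first : mem 0 = principal X
  sg_first : sg 0 = 1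
  sg_sq : ∀ i, sg i * sg i = 1
  even : ∀ i (g : X), 2 ∣ orderOf g → (mem i : X → ℂ) g = (sg i : ℂ)
  regular : ∀ g : X, ¬ 2 ∣ orderOf g → ∑ i, (sg i : ℂ) * (mem i : X → ℂ) g = 0

theorem exists_ktable {M : Ideal AlgInt} (hM : IsPModular 2 M) {P : Sylow 2 X}
    (hP : Nat.card (P : Subgroup X) = 4) (hexp : ∀ u ∈ (P : Subgroup X), u * u = 1)
    (hone : ∀ s t : X, orderOf s = 2 → orderOf t = 2 → IsConj s t) : Nonempty (KTable X M) := by
  classical
  haveI : Fact (Nat.Prime 2) := ⟨Nat.prime_two⟩
  obtain ⟨ε, hcard, hε1, hε⟩ := klein_values hP hexp hM hone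
  set S := Finset.univ.filter (fun φ : IrrCharacter X => φ ∈ principalBlock M X) with hS
  have hpS : principal X ∈ S := Finset.mem_filter.2 ⟨Finset.mem_univ _, mem_blockOf_self hM (principal X)⟩
  obtain ⟨e, he0⟩ : ∃ e : Fin 4 ≃ {χ // χ ∈ S}, e 0 = ⟨_, hpS⟩ := by
    have e0 : Fin 4 ≃ {χ // χ ∈ S} := (Fintype.equivFinOfCardEq (by rw [Fintype.card_coe]; exact hcard)).symm
    exact ⟨(Equiv.swap 0 (e0.symm ⟨_, hpS⟩)).trans e0, by
      rw [Equiv.trans_apply, Equiv.swap_apply_left, Equiv.apply_symm_apply]⟩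
  obtain ⟨z, hz⟩ := exists_prime_orderOf_dvd_card' (G := X) 2 ((by rw [hP]; norm_num :
    2 ∣ Nat.card (P : Subgroup X)).trans (Subgroup.card_subgroup_dvd_card _))
  have hmem : ∀ i, ((e i).1 : IrrCharacter X) ∈ principalBlock M X := fun i => (Finset.mem_filter.1 (e i).2).2
  refine ⟨⟨fun i => (e i).1, fun i => ε (e i).1, Subtype.val_injective.comp e.injective, fun χ => ?_,
    by show (e 0).1 = _; rw [he0], by show ε (e 0).1 = 1; rw [he0]; exact hε1, fun i => ?_,
    fun i g hg => (hε _ (hmem i)).2 g hg, fun g hg => ?_⟩⟩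
  · exact ⟨fun h => ⟨e.symm ⟨χ, Finset.mem_filter.2 ⟨Finset.mem_univ _, h⟩⟩, by simp⟩,
      by rintro ⟨i, rfl⟩; exact hmem i⟩
  · rcases (hε _ (hmem i)).1 with h | h <;> simp [h]
  · have h2 : 2 ∣ orderOf z := dvd_of_eq hz.symm
    have h := block_orthogonality_regular hM (isPBlock_blockOf (principal X) : IsPBlock M (principalBlock M X)) hg h2
    change ∑ χ ∈ S, (χ : X → ℂ) g * conj ((χ : X → ℂ) z) = 0 at h
    rw [← Finset.sum_attach S, ← Finset.univ_eq_attach, ← e.sum_comp] at h
    rw [← h]
    refine Finset.sum_congr rfl fun i _ => ?_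
    rw [(hε _ (hmem i)).2 z h2, map_intCast, mul_comm]

namespace KTable

variable {M : Ideal AlgInt} (T : KTable X M)

/-- A signed member. -/
def ps (i : Fin 4) : X → ℂ := (T.sg i : ℂ) • (T.mem i : X → ℂ)

def x : X → ℂ := T.ps 1 - T.ps 0
def al : X → ℂ := T.ps 1 - T.ps 2
def be : X → ℂ := T.ps 1 - T.ps 3
def A : X → ℂ := -T.ps 2
def B : X → ℂ := -T.ps 3

theorem inner_ps (i j : Fin 4) : classInner (T.ps i) (T.ps j) = if i = j then 1 else 0 := by
  rw [ps, ps, classInner_smul_left, classInner_smul_right, classInner_irrCharacter, map_intCast]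
  by_cases h : i = j
  · subst h
    rw [if_pos rfl, if_pos rfl, mul_one]
    exact_mod_cast T.sg_sq i
  · rw [if_neg h, if_neg fun e => h (T.inj e), mul_zero, mul_zero]

theorem ps_gen (i : Fin 4) : IsGeneralizedCharacter X (T.ps i) := by
  refine isGeneralized_of_coeff (fun a h => ?_) fun θ => ⟨if T.mem i = θ then T.sg i else 0, ?_⟩
  · simp only [ps, Pi.smul_apply, smul_eq_mul]
    rw [isClassFunction_irr (T.mem i) a h]
  · rw [ps, classInner_smul_left, classInner_irrCharacter]
    split_ifs <;> simp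

theorem ps_even (i : Fin 4) {g : X} (hg : ¬ Odd (orderOf g)) : T.ps i g = 1 := by
  simp only [ps, Pi.smul_apply, smul_eq_mul]
  rw [T.even i g (even_iff_two_dvd.1 (Nat.not_odd_iff_even.1 hg))]
  exact_mod_cast T.sg_sq i

theorem special (i j : Fin 4) : IsSpecial (T.ps i - T.ps j) := by
  obtain ⟨a, b, ha, hb, e⟩ := T.ps_gen i
  obtain ⟨c, d, hc, hd, e'⟩ := T.ps_gen j
  have hg : IsGeneralizedCharacter X (T.ps i - T.ps j) :=
    ⟨a + d, b + c, IsCharacter.add ha hd, IsCharacter.add hb hc, by rw [e, e']; funext y; simp only [Pi.sub_apply, Pi.add_apply]; ring⟩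
  exact ⟨isClassFunction_generalized hg, hg, fun g hg' => by
    rw [Pi.sub_apply, T.ps_even i hg', T.ps_even j hg', sub_self]⟩

theorem ps_zero : T.ps 0 = fun _ => 1 := by
  funext g
  simp [ps, T.first, T.sg_first, principal]

/-- The principal part at the regular elements. -/
theorem block_formula (f : X → ℂ) {y : X} (hy : Odd (orderOf y)) :
    blockPart (principalBlock M X) f y =
      -classInner f T.x + classInner f T.al * T.A y + classInner f T.be * T.B y := by
  classical
  have hr := T.regular y (Nat.two_dvd_ne_zero.2 (Nat.odd_iff.1 hy))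
  rw [blockPart_eq_sum, show Finset.univ.filter (· ∈ principalBlock M X) = Finset.univ.image T.mem by
    ext χ; simp [T.block], Finset.sum_image T.inj.injOn]
  have e : ∀ i, classInner f (T.mem i : X → ℂ) * (T.mem i : X → ℂ) y = classInner f (T.ps i) * T.ps i y := fun i => by
    simp only [ps, classInner_smul_right, map_intCast, Pi.smul_apply, smul_eq_mul]
    have := T.sg_sq i
    have h' : (T.sg i : ℂ) * (T.sg i : ℂ) = 1 := by exact_mod_cast this
    linear_combination (-(classInner f (T.mem i : X → ℂ) * (T.mem i : X → ℂ) y)) * h'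
  rw [Finset.sum_congr rfl fun i _ => e i, Fin.sum_univ_four]
  have h0 : T.ps 0 y = 1 := congrFun T.ps_zero y
  rw [Fin.sum_univ_four] at hr
  change T.ps 0 y + T.ps 1 y + T.ps 2 y + T.ps 3 y = 0 at hr
  rw [x, al, be, classInner_sub_right, classInner_sub_right, classInner_sub_right, A, B, Pi.neg_apply, Pi.neg_apply]
  rw [h0] at hr ⊢
  linear_combination (classInner f (T.ps 1)) * hr

/-- The inner products. -/
theorem inners : classInner T.x T.x = 2 ∧ classInner T.al T.al = 2 ∧ classInner T.be T.be = 2 ∧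
    classInner T.x T.al = 1 ∧ classInner T.x T.be = 1 ∧ classInner T.al T.be = 1 ∧
    classInner T.x (fun _ => 1) = -1 ∧ classInner T.al (fun _ => 1) = 0 ∧ classInner T.be (fun _ => 1) = 0 := by
  rw [← T.ps_zero]
  simp only [x, al, be, classInner_sub_left, classInner_sub_right, T.inner_ps]
  norm_num [Fin.ext_iff]

/-- Duality. -/
theorem duals : classInner T.A T.x = 0 ∧ classInner T.A T.al = 1 ∧ classInner T.A T.be = 0 ∧
    classInner T.B T.x = 0 ∧ classInner T.B T.al = 0 ∧ classInner T.B T.be = 1 := by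
  simp only [x, al, be, A, B, classInner_sub_right, classInner_neg_left, T.inner_ps]
  norm_num [Fin.ext_iff]

theorem special_x : IsSpecial T.x := T.special 1 0
theorem special_al : IsSpecial T.al := T.special 1 2
theorem special_be : IsSpecial T.be := T.special 1 3

end KTable

/-- The product with a linear character. -/
def twist (μ : X →* ℂˣ) (f : X → ℂ) : X → ℂ := fun y => (μ y : ℂ) * f y

theorem inner_twist (μ : X →* ℂˣ) (f g : X → ℂ) : classInner (twist μ f) (twist μ g) = classInner f g := by
  rw [classInner_def, classInner_def]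
  congr 1
  refine Finset.sum_congr rfl fun y _ => ?_
  have h : (μ y : ℂ) * conj (μ y : ℂ) = 1 := by
    have h' : conj (μ y : ℂ) = (μ y⁻¹ : ℂ) :=
      (IsCharacter.conj_inv (isCharacter_of_irr (isIrrCharacter_linear μ)) y).symm
    rw [h', map_inv, Units.val_inv_eq_inv_val, mul_inv_cancel₀ (Units.ne_zero _)]
  simp only [twist, map_mul]
  linear_combination (f y * conj (g y)) * h

theorem special_twist (μ : X →* ℂˣ) {f : X → ℂ} (hf : IsSpecial f) : IsSpecial (twist μ f) := by
  have hg : IsGeneralizedCharacter X (twist μ f) := by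
    obtain ⟨a, b, ha, hb, e⟩ := hf.2.1
    refine ⟨_, _, IsCharacter.mul (isCharacter_of_irr (isIrrCharacter_linear μ)) ha,
      IsCharacter.mul (isCharacter_of_irr (isIrrCharacter_linear μ)) hb, ?_⟩
    funext y
    simp only [twist, e, Pi.sub_apply, Pi.mul_apply]
    ring
  exact ⟨isClassFunction_generalized hg, hg, fun y hy => by rw [twist, hf.2.2 y hy, mul_zero]⟩

end Cfsg.Lib.Ree.Twist
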