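import Cfsg.Agent.Ree.Twist.Linear
import Cfsg.Agent.Ree.Transfer.Frame

/-!
The blocks `μ b₀(E)`, `μ` linear on `E/E₀`, are different.
-/

set_option autoImplicit false
set_option linter.style.haveILetI false
set_option linter.unusedSectionVars false

namespace Cfsg.Lib.Ree.Twist

open Cfsg Cfsg.Lib.Chars Cfsg.Lib.Blocks

universe u v

variable {G : Type u} [Group G] [Fintype G] {t : G} {E E₀ : Subgroup G} [Fintype E] {F : Type v} [Field F]
  [Fintype F] (S : Setting t E E₀ F)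
include S

/-- The table on `E`. -/
theorem Setting.exists_table {M : Ideal AlgInt} (hM : IsPModular 2 M) : Nonempty (KTable E M) := by
  haveI : Fact (Nat.Prime 2) := ⟨Nat.prime_two⟩
  obtain ⟨P, T, -, -, h4, hexp, -⟩ := S.exists_klein
  refine exists_ktable hM h4 hexp fun a b ha hb => ?_
  obtain ⟨hE, g, hg, hgab⟩ := S.conj_E ha hb
  exact isConj_iff.2 ⟨⟨g, S.hyp.le hg⟩, Subtype.ext hgab⟩

/-- A linear character of `E/E₀` in the principal block is trivial. -/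
theorem Setting.eq_one_of_principal {M : Ideal AlgInt} (hM : IsPModular 2 M) {μ : E →* ℂˣ}
    (hμ : ∀ e : E, (e : G) ∈ E₀ → μ e = 1)
    (hmem : (⟨_, isIrrCharacter_linear μ⟩ : IrrCharacter E) ∈ principalBlock M E) : μ = 1 := by
  obtain ⟨T, a, b, n, hy⟩ := AbCentMax.exists_sys S.hyp S.ab
  obtain ⟨K⟩ := S.exists_table hM
  obtain ⟨i, hi⟩ := (K.block _).1 hmem
  refine MonoidHom.ext fun e => ?_
  obtain ⟨g, hg, x, hx, he⟩ := S.exists_mul hy e.2
  obtain ⟨hxE, hxa, -, hxo⟩ := (S.mem_Phi hy).1 hx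
  rw [show e = (⟨g, S.hyp.le hg⟩ : E) * ⟨x, hxE⟩ from Subtype.ext he, map_mul, hμ _ hg, one_mul, MonoidHom.one_apply]
  set z : E := ⟨x, hxE⟩ * ⟨a, S.hyp.le hy.aE⟩
  have hz2 : 2 ∣ orderOf z := by
    rw [← S.orderOf_coe]
    show 2 ∣ orderOf (x * a)
    rw [hxa.orderOf_mul_eq_mul_orderOf_of_coprime (by rw [hy.ao]; exact Nat.coprime_two_right.2 hxo), hy.ao]
    exact dvd_mul_left _ _
  have hval : (μ ⟨x, hxE⟩ : ℂ) = K.sg i := by
    rw [← K.even i z hz2, hi]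
    show _ = (μ z : ℂ)
    rw [map_mul, hμ ⟨a, S.hyp.le hy.aE⟩ hy.aE, mul_one]
  have hsq : μ ⟨x, hxE⟩ ^ 2 = 1 := Units.ext (by
    rw [pow_two, Units.val_mul, hval, Units.val_one]; exact_mod_cast K.sg_sq i)
  have hpow : μ ⟨x, hxE⟩ ^ orderOf x = 1 := by
    rw [← map_pow, show (⟨x, hxE⟩ : E) ^ orderOf x = 1 from Subtype.ext (pow_orderOf_eq_one x), map_one]
  have h := pow_gcd_eq_one.2 ⟨hsq, hpow⟩
  rwa [Nat.coprime_two_left.2 hxo, pow_one] at h

end Cfsg.Lib.Ree.Twist
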