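import Cfsg.Agent.Ree.Twist.Linear
import Cfsg.Agent.Chars.Construct

/-!
Two tests: a character constant on the elements of even order is in the principal block, and a character fixed by
no linear character of an abelian quotient restricts irreducibly to the kernel.
-/

set_option autoImplicit false
set_option linter.style.haveILetI false
set_option linter.unusedSectionVars false

namespace Cfsg.Lib.Ree.Twist

open Cfsg Cfsg.Lib.Chars Cfsg.Lib.Blocks
open scoped ComplexConjugate

universe u

variable {X : Type u} [Group X] [Fintype X]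

/-- A character with a nonzero constant value on the elements of even order is in the principal block. -/
theorem mem_principal_of_even {M : Ideal AlgInt} (hM : IsPModular 2 M) {θ : IrrCharacter X} {c : ℂ} (hc : c ≠ 0)
    {z : X} (hz : orderOf z = 2) (h : ∀ g : X, 2 ∣ orderOf g → (θ : X → ℂ) g = c) :
    θ ∈ principalBlock M X := by
  classical
  haveI : Fact (Nat.Prime 2) := ⟨Nat.prime_two⟩
  by_contra hθ
  have hB : IsPBlock M (principalBlock M X) := isPBlock_blockOf (principal X)
  have hzp : IsPPart 2 z z := ⟨1, mul_one z, Commute.one_right z, ⟨1, by rw [hz, pow_one]⟩, by simp⟩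
  set f : X → ℂ := (θ : X → ℂ) - c • ((principal X : IrrCharacter X) : X → ℂ) with hf
  have h0 : blockPart (principalBlock M X) f z = 0 := by
    refine blockPart_eq_zero_on_section hM hB hzp (IsConj.refl z) fun w y hwy hzy => ?_
    obtain ⟨r, rfl, hcomm, -, hr⟩ := hwy
    obtain ⟨g, hg⟩ := isConj_iff.1 hzy
    have hy : orderOf y = 2 := by rw [← hg, ← MulAut.conj_apply, MulEquiv.orderOf_eq, hz]
    have heven : 2 ∣ orderOf (y * r) := by
      rw [hcomm.orderOf_mul_eq_mul_orderOf_of_coprime (by rw [hy]; exact (Nat.prime_two.coprime_iff_not_dvd).2 hr), hy]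
      exact dvd_mul_right _ _
    rw [hf, Pi.sub_apply, Pi.smul_apply, smul_eq_mul, h _ heven]
    show c - c * 1 = 0
    ring
  rw [blockPart_eq_sum] at h0
  have e : ∀ χ ∈ Finset.univ.filter (· ∈ principalBlock M X), classInner f (χ : X → ℂ) * (χ : X → ℂ) z =
      if principal X = χ then -c * (χ : X → ℂ) z else 0 := fun χ hχ => by
    rw [hf, classInner_sub_left, classInner_smul_left, classInner_irrCharacter, classInner_irrCharacter,
      if_neg fun e : θ = χ => hθ (e.symm ▸ (Finset.mem_filter.1 hχ).2)]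
    split_ifs <;> simp
  have hp : principal X ∈ principalBlock M X := mem_blockOf_self hM (principal X)
  rw [Finset.sum_congr rfl e, Finset.sum_ite_eq, if_pos (Finset.mem_filter.2 ⟨Finset.mem_univ _, hp⟩)] at h0
  exact hc (neg_eq_zero.1 (by simpa [principal] using h0))

/-- The characters of a finite abelian group sum to zero away from the identity. -/
theorem sum_homs {Q : Type u} [CommGroup Q] [Finite Q] [Fintype (Q →* ℂˣ)] {x : Q} (hx : x ≠ 1) :
    ∑ μ : Q →* ℂˣ, (μ x : ℂ) = 0 := by
  haveI : NeZero (Monoid.exponent Q : ℂ) := ⟨Nat.cast_ne_zero.mpr Monoid.exponent_ne_zero_of_finite⟩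
  haveI : HasEnoughRootsOfUnity ℂ (Monoid.exponent Q) := inferInstance
  obtain ⟨ν, hν⟩ := CommGroup.exists_apply_ne_one_of_hasEnoughRootsOfUnity Q ℂ hx
  have h : ∑ μ : Q →* ℂˣ, (μ x : ℂ) = (ν x : ℂ) * ∑ μ : Q →* ℂˣ, (μ x : ℂ) := by
    rw [Finset.mul_sum]
    exact (Fintype.sum_equiv (Equiv.mulLeft ν) _ _ fun μ => by simp).symm
  by_contra h0
  exact hν (Units.ext (mul_right_cancel₀ h0 (by rw [Units.val_one, one_mul]; exact h.symm)))

/-- A character fixed by no linear character of the abelian quotient stays irreducible on `N`. -/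
theorem restrict_irreducible (N : Subgroup X) [Fintype N] [hN : N.Normal]
    (hab : ∀ a b : X, a * b * a⁻¹ * b⁻¹ ∈ N) (θ : IrrCharacter X)
    (h : ∀ ν : X →* ℂˣ, (∀ m ∈ N, ν m = 1) → twist ν (θ : X → ℂ) = θ → ν = 1) :
    IsIrrCharacter N (fun m : N => (θ : X → ℂ) m) := by
  classical
  letI : CommGroup (X ⧸ N) :=
    { (inferInstance : Group (X ⧸ N)) with
      mul_comm := by
        intro a b
        induction a using QuotientGroup.induction_on with | H a => ?_
        induction b using QuotientGroup.induction_on with | H b => ?_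
        rw [← QuotientGroup.mk_mul, ← QuotientGroup.mk_mul, QuotientGroup.eq]
        have h1 := hab b⁻¹ a⁻¹
        simpa [mul_assoc] using h1 }
  haveI : NeZero (Monoid.exponent (X ⧸ N) : ℂ) := ⟨Nat.cast_ne_zero.mpr Monoid.exponent_ne_zero_of_finite⟩
  obtain ⟨eq⟩ := CommGroup.monoidHom_mulEquiv_of_hasEnoughRootsOfUnity (X ⧸ N) ℂ
  haveI : Finite ((X ⧸ N) →* ℂˣ) := Finite.of_equiv _ eq.toEquiv.symm
  letI := Fintype.ofFinite ((X ⧸ N) →* ℂˣ)
  refine isIrrCharacter_of_norm_one (IsCharacter.restrict (isCharacter_of_irr θ.2) N) ?_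
  set π := QuotientGroup.mk' N
  have hterm : ∀ χ : (X ⧸ N) →* ℂˣ,
      classInner (twist (χ.comp π) (θ : X → ℂ)) (θ : X → ℂ) = if χ = 1 then 1 else 0 := by
    intro χ
    have hir : IsIrrCharacter X (twist (χ.comp π) (θ : X → ℂ)) := IsIrrCharacter.mul_linear θ.2 _
    by_cases hχ : χ = 1
    · rw [if_pos hχ, hχ, MonoidHom.one_comp, twist_one, classInner_irr_self]
    · rw [if_neg hχ]
      refine classInner_irr_ne (χ := ⟨_, hir⟩) fun e => hχ ?_
      have hn := h (χ.comp π) (fun m hm => by
        rw [MonoidHom.comp_apply, show π m = 1 from (QuotientGroup.eq_one_iff m).2 hm, map_one])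
        (congrArg Subtype.val e)
      refine MonoidHom.ext fun q => ?_
      obtain ⟨g, rfl⟩ := QuotientGroup.mk'_surjective N q
      exact DFunLike.congr_fun hn g
  have hcard : (Fintype.card ((X ⧸ N) →* ℂˣ) : ℂ) = (Nat.card X : ℂ) / Nat.card N := by
    rw [eq_div_iff (Nat.cast_ne_zero.2 Nat.card_pos.ne'), ← Nat.cast_mul, ← Nat.card_eq_fintype_card,
      Nat.card_congr eq.toEquiv, ← Subgroup.card_eq_card_quotient_mul_card_subgroup]
  have hsum : ∑ χ : (X ⧸ N) →* ℂˣ, classInner (twist (χ.comp π) (θ : X → ℂ)) (θ : X → ℂ) = 1 := by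
    rw [Finset.sum_congr rfl fun χ _ => hterm χ, Finset.sum_ite_eq', if_pos (Finset.mem_univ _)]
  rw [← hsum]
  simp only [classInner_def, ← Finset.mul_sum]
  rw [Finset.sum_comm, ← Finset.sum_filter_add_sum_filter_not Finset.univ (fun g : X => g ∈ N),
    Finset.sum_eq_zero (s := Finset.univ.filter fun g : X => ¬ g ∈ N) fun g hg => ?_, add_zero,
    Finset.sum_subtype (p := (· ∈ N)) (Finset.univ.filter (· ∈ N)) (fun g => by simp), Finset.mul_sum,
    Finset.mul_sum]
  · refine Finset.sum_congr rfl fun m _ => ?_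
    rw [Finset.sum_congr rfl (g := fun _ => (θ : X → ℂ) m * conj ((θ : X → ℂ) m)) fun χ _ => by
      rw [twist, MonoidHom.comp_apply, show π (m : X) = 1 from (QuotientGroup.eq_one_iff (m : X)).2 m.2, map_one,
        Units.val_one, one_mul], Finset.sum_const, Finset.card_univ, nsmul_eq_mul, hcard]
    have h1 : (Nat.card X : ℂ) ≠ 0 := Nat.cast_ne_zero.2 Nat.card_pos.ne'
    have h2 : (Nat.card N : ℂ) ≠ 0 := Nat.cast_ne_zero.2 Nat.card_pos.ne'
    field_simp
  · have hq : π g ≠ 1 := fun e => (Finset.mem_filter.1 hg).2 ((QuotientGroup.eq_one_iff g).1 e)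
    simp only [twist, MonoidHom.comp_apply, mul_assoc]
    rw [← Finset.sum_mul, sum_homs hq, zero_mul]

end Cfsg.Lib.Ree.Twist
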