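import Cfsg.Agent.Ree.Twist.Points
import Cfsg.Agent.Ree.Twist.Principal
import Cfsg.Agent.Ree.Twist.Restrict
import Cfsg.Agent.Ree.PSL.Main
import Cfsg.Agent.Chars.SmallDegreesSylow

/-!
The character of degree `q` of `E` on the `q + 1` Sylow subgroups of the defining characteristic of `E₀`.
-/

set_option autoImplicit false
set_option linter.style.haveILetI false
set_option linter.unusedSectionVars false

namespace Cfsg.Lib.Ree.Twist

open Cfsg Cfsg.Lib.Chars Cfsg.Lib.Blocks
open scoped Pointwise

universe u v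

section General

variable {Y : Type u} [Group Y] [Fintype Y] {W : Type u} [MulAction Y W] [Finite W]

/-- The nontrivial part of a doubly transitive permutation character is irreducible. -/
theorem irr_perm_sub_one (h3 : 3 ≤ Nat.card W) (h2 : ∀ a b c : W, b ≠ a → c ≠ a → ∃ y : Y, y • a = a ∧ y • b = c) :
    IsIrrCharacter Y (permChar Y W - fun _ => (1 : ℂ)) := by
  classical
  letI := Fintype.ofFinite W
  have h3' : 2 < Fintype.card W := by rw [← Nat.card_eq_fintype_card]; omega
  have hthird : ∀ a b : W, ∃ c, c ≠ a ∧ c ≠ b := fun a b => by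
    by_contra hno
    push Not at hno
    have : (Finset.univ : Finset W).card ≤ ({a, b} : Finset W).card := Finset.card_le_card fun c _ => by
      by_cases hc : c = a
      · simp [hc]
      · simp [hno c hc]
    rw [Finset.card_univ] at this
    have := this.trans Finset.card_le_two
    omega
  haveI htr : MulAction.IsPretransitive Y W := ⟨fun a b => by
    obtain ⟨c, hca, hcb⟩ := hthird a b
    obtain ⟨y, -, hy⟩ := h2 c a b hca.symm hcb.symm
    exact ⟨y, hy⟩⟩
  obtain ⟨a, b, hab⟩ := Fintype.one_lt_card_iff.1 (show 1 < Fintype.card W by omega)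
  have hone : Nat.card (MulAction.orbitRel.Quotient Y W) = 1 := by
    refine Nat.card_eq_one_iff_unique.2 ⟨⟨fun x x' => ?_⟩, ⟨⟦a⟧⟩⟩
    induction x using Quotient.inductionOn with | _ x => ?_
    induction x' using Quotient.inductionOn with | _ x' => ?_
    exact Quotient.sound (MulAction.exists_smul_eq Y x' x)
  have htwo : Nat.card (MulAction.orbitRel.Quotient Y (W × W)) = 2 := by
    refine Nat.card_eq_two_iff.2 ⟨⟦(a, a)⟧, ⟦(a, b)⟧, fun e => hab ?_, Set.eq_univ_of_forall fun x => ?_⟩
    · obtain ⟨g, hg⟩ := Quotient.exact e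
      have h1 : g • a = a := congrArg Prod.fst hg
      have h2' : g • b = a := congrArg Prod.snd hg
      exact MulAction.injective g (h1.trans h2'.symm)
    · induction x using Quotient.inductionOn with | _ x => ?_
      obtain ⟨x, x'⟩ := x
      obtain ⟨g, hg⟩ := MulAction.exists_smul_eq Y a x
      by_cases hx : x' = x
      · exact Or.inl (Quotient.sound ⟨g, Prod.ext hg (by show g • a = x'; rw [hg, hx])⟩)
      · obtain ⟨k, hka, hkb⟩ := h2 a b (g⁻¹ • x') hab.symm fun e => hx (by rw [← hg, ← e, smul_inv_smul])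
        exact Or.inr (Quotient.sound ⟨g * k, Prod.ext (by show (g * k) • a = x; rw [mul_smul, hka, hg])
          (by show (g * k) • b = x'; rw [mul_smul, hkb, smul_inv_smul])⟩)
  have hpp : classInner (permChar Y W) (permChar Y W) = 2 := by rw [classInner_permChar_self, htwo]; norm_num
  have hp1 : classInner (permChar Y W) (fun _ => 1) = 1 := by rw [classInner_permChar_one, hone]; norm_num
  have h11 : classInner (fun _ : Y => (1 : ℂ)) (fun _ => 1) = 1 := classInner_irr_self (principal Y)
  have hnorm : classInner (permChar Y W - fun _ => (1 : ℂ)) (permChar Y W - fun _ => (1 : ℂ)) = 1 := by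
    rw [classInner_sub_left, classInner_sub_right, classInner_sub_right, hpp, hp1, h11,
      ← classInner_conj_symm, hp1, map_one]
    norm_num
  rcases isIrr_or_neg_of_norm_one ⟨_, _, isCharacter_permChar W, isCharacter_of_irr (principal Y).2, rfl⟩ hnorm with
    h | h
  · exact h
  · exfalso
    have hd : (-(permChar Y W - fun _ => (1 : ℂ)) : Y → ℂ) 1 = (deg (-(permChar Y W - fun _ => (1 : ℂ))) : ℂ) :=
      irr_apply_one_eq_deg (⟨_, h⟩ : IrrCharacter Y)
    have hW : permChar Y W 1 = (Nat.card W : ℂ) := by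
      rw [permChar]
      exact congrArg Nat.cast (Nat.card_congr (Equiv.subtypeUnivEquiv fun x => one_smul Y x))
    rw [Pi.neg_apply, Pi.sub_apply, hW] at hd
    have hd' : ((-((Nat.card W : ℤ) - 1) : ℤ) : ℂ) = (((deg (-(permChar Y W - fun _ => (1 : ℂ)))) : ℤ) : ℂ) := by
      push_cast
      exact hd
    have := Int.cast_injective hd'
    omega

end General

variable {F : Type v} [Field F] [Fintype F]

open Cfsg.Lib.Known.AutPSL2 in
/-- The Sylow subgroups in the defining characteristic. -/
theorem psl_points (hodd : Odd (Fintype.card F)) (h5 : 5 ≤ Fintype.card F) {X : Type u} [Group X] [Fintype X]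
    (f : X ≃* Matrix.ProjectiveSpecialLinearGroup (Fin 2) F) {p n : ℕ} [Fact p.Prime]
    (hF : Fintype.card F = p ^ n) {z : X} (hz : orderOf z = 2) :
    Nat.card (Sylow p X) = Fintype.card F + 1 ∧
      ∀ P Q R : Sylow p X, Q ≠ P → R ≠ P → ∃ x ∈ P, x • Q = R := by
  classical
  set q := Fintype.card F with hq
  have h2X : 2 * Nat.card X = q * (q * q - 1) := by
    rw [Nat.card_congr f.toEquiv]
    exact (PSL.involution_centralizer hodd (show orderOf (f z) = 2 by rw [f.orderOf_eq, hz])).1
  have hn0 : n ≠ 0 := by rintro rfl; rw [pow_zero] at hF; omega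
  have hpq : p ∣ q := hF ▸ dvd_pow_self p hn0
  have hpp : p.Prime := Fact.out
  let g : Multiplicative F →* X := f.symm.toMonoidHom.comp (u (F := F))
  have hg : Function.Injective g := f.symm.injective.comp u_injective
  set U : Subgroup X := g.range
  have hUc : Nat.card U = q := by
    rw [← Nat.card_congr (MonoidHom.ofInjective hg).toEquiv, Nat.card_congr Multiplicative.toAdd,
      Nat.card_eq_fintype_card]
  obtain ⟨P₀, hP₀⟩ := (IsPGroup.of_card (hUc.trans hF) : IsPGroup p U).exists_le_sylow
  have hcop : Nat.Coprime p (q * q - 1) := hpp.coprime_iff_not_dvd.2 fun h => by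
    have h1 : p ∣ q * q := hpq.mul_right q
    have h2 := Nat.dvd_sub h1 h
    rw [Nat.sub_sub_self (Nat.one_le_iff_ne_zero.2 (Nat.mul_ne_zero (by omega) (by omega)))] at h2
    exact hpp.one_lt.ne' (Nat.dvd_one.1 h2)
  have hcardP : ∀ P : Sylow p X, Nat.card (P : Subgroup X) = q := fun P => by
    refine Nat.dvd_antisymm ?_ (by
      rw [P.card_eq_multiplicity, ← P₀.card_eq_multiplicity, ← hUc]; exact Subgroup.card_dvd_of_le hP₀)
    obtain ⟨i, hi⟩ := IsPGroup.iff_card.1 P.isPGroup'
    have h := Nat.mul_dvd_mul_left 2 (Subgroup.card_subgroup_dvd_card (P : Subgroup X))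
    rw [h2X] at h
    exact ((hi ▸ hcop.pow_left i : Nat.Coprime (Nat.card (P : Subgroup X)) (q * q - 1))).dvd_of_dvd_mul_right
      ((dvd_mul_left _ 2).trans h)
  have hPU : (P₀ : Subgroup X) = U :=
    (Subgroup.eq_of_le_of_card_ge hP₀ (by rw [hcardP, hUc])).symm
  have hcent : ∀ x ∈ U, x ≠ 1 → ∀ y : X, Commute y x → y ∈ U := by
    rintro _ ⟨w, rfl⟩ hw y hy
    have hw1 : w ≠ 1 := fun e => hw (by rw [e, map_one])
    obtain ⟨w', hw'⟩ := Cfsg.Lib.EqualOrder.mem_u_range_of_commute hw1 (g := f y) (by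
      have := hy.map f.toMonoidHom
      simpa [g] using this)
    exact ⟨w', by simp [g, hw']⟩
  have hUab : ∀ x ∈ U, ∀ y ∈ U, Commute x y := by
    rintro _ ⟨w, rfl⟩ _ ⟨w', rfl⟩
    exact (Commute.all w w').map g
  have hab : ∀ Q : Sylow p X, ∀ x ∈ (Q : Subgroup X), ∀ y ∈ (Q : Subgroup X), Commute x y := by
    intro Q x hx y hy
    obtain ⟨c, rfl⟩ := MulAction.exists_smul_eq X P₀ Q
    obtain ⟨x', hx', rfl⟩ := hx
    obtain ⟨y', hy', rfl⟩ := hy
    exact (hUab x' (hPU ▸ hx') y' (hPU ▸ hy')).map (MulAut.conj c).toMonoidHom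
  refine sylow_count_of_ti ?_ hcardP h2X h5 hodd ?_
  · intro P Q x hxP hxQ hx1
    obtain ⟨c, rfl⟩ := MulAction.exists_smul_eq X P₀ P
    obtain ⟨x', hx', rfl⟩ := hxP
    have hx'1 : x' ≠ 1 := fun e => hx1 (by rw [e]; simp)
    have hle : (Q : Subgroup X) ≤ ((c • P₀ : Sylow p X) : Subgroup X) := fun y hy => by
      have hc := (hab Q y hy _ hxQ).map (MulAut.conj c⁻¹).toMonoidHom
      refine ⟨c⁻¹ * y * c, hPU.symm ▸ hcent x' (hPU ▸ hx') hx'1 _ (by simpa [mul_assoc] using hc), ?_⟩
      simp [mul_assoc]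
    exact Sylow.ext ((Q.is_maximal' (c • P₀).isPGroup' hle))
  · intro P hn
    haveI : IsSimpleGroup (Matrix.ProjectiveSpecialLinearGroup (Fin 2) F) :=
      Matrix.ProjectiveSpecialLinearGroup.rank_two_simple (by rw [Nat.card_eq_fintype_card]; omega)
    haveI : Nontrivial X := f.toEquiv.nontrivial
    haveI : IsSimpleGroup X := IsSimpleGroup.isSimpleGroup_of_surjective f.symm.toMonoidHom f.symm.surjective
    have hc := hcardP P
    rcases IsSimpleGroup.eq_bot_or_eq_top_of_normal (P : Subgroup X) hn with e | e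
    · rw [e, Subgroup.card_bot] at hc; omega
    · rw [e, Subgroup.card_top] at hc
      have hzd := hc ▸ orderOf_dvd_natCard z
      rw [hz] at hzd
      exact Nat.not_even_iff_odd.2 hodd (even_iff_two_dvd.2 hzd)

variable {G : Type u} [Group G] [Fintype G] {t : G} {E E₀ : Subgroup G} [Fintype E] (S : Setting t E E₀ F)
include S

/-- **The character of degree `q`**: the values at the elements of even order are one sign. -/
theorem Setting.exists_steinberg {M : Ideal AlgInt} (hM : IsPModular 2 M) {p n : ℕ} [Fact p.Prime]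
    (hF : Fintype.card F = p ^ n) :
    ∃ θ : IrrCharacter E, θ ∈ principalBlock M E ∧ deg (θ : E → ℂ) = Fintype.card F ∧
      (∀ g : E, 2 ∣ orderOf g → (θ : E → ℂ) g = ((if Fintype.card F % 8 = 5 then 1 else -1 : ℤ) : ℂ)) ∧
      ∀ y : E, (θ : E → ℂ) y = (Nat.card {P : Sylow p ↥E₀ //
        (y : G) ∈ Subgroup.normalizer ((((P : Subgroup ↥E₀).map E₀.subtype) : Subgroup G) : Set G)} : ℂ) - 1 := by
  classical
  haveI : Fact (Nat.Prime 2) := ⟨Nat.prime_two⟩
  letI := Fintype.ofFinite E₀
  set q := Fintype.card F with hqdef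
  have hodd : Odd q := S.hyp.odd
  obtain ⟨T, a, b, nn, hy⟩ := AbCentMax.exists_sys S.hyp S.ab
  obtain ⟨f⟩ := S.hyp.iso
  have ha0 : orderOf (⟨a, hy.aE⟩ : E₀) = 2 := by rw [Subgroup.orderOf_mk, hy.ao]
  obtain ⟨hcard, htr⟩ := psl_points hodd S.five f hF ha0
  letI : MulDistribMulAction E E₀ := MulDistribMulAction.compHom E₀ S.actE
  set W := Sylow p E₀ with hWdef
  have hW3 : 3 ≤ Nat.card W := by rw [hcard]; have := S.five; omega
  have hact : ∀ (x : E₀) (P : W), (⟨(x : G), S.hyp.le x.2⟩ : E) • P = x • P := fun x P => by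
    refine Sylow.ext ?_
    rw [Sylow.pointwise_smul_def, Sylow.coe_subgroup_smul]
    ext w
    rw [Subgroup.mem_pointwise_smul_iff_inv_smul_mem, Subgroup.mem_pointwise_smul_iff_inv_smul_mem]
    show (S.actE (⟨(x : G), S.hyp.le x.2⟩ : E)⁻¹) w ∈ (P : Subgroup E₀) ↔
      ((MulAut.conj x)⁻¹ : MulAut E₀) w ∈ (P : Subgroup E₀)
    rw [map_inv, show S.actE (⟨(x : G), S.hyp.le x.2⟩ : E) = MulAut.conj x from
      MulEquiv.ext fun v => Subtype.ext rfl]
  have hdeg : ∀ {Y : Type u} [Group Y] [Fintype Y] [MulAction Y W] (h : IsIrrCharacter Y (permChar Y W - fun _ => (1 : ℂ))),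
      deg (permChar Y W - fun _ => (1 : ℂ)) = q := fun {Y} _ _ _ h => by
    have hd : (permChar Y W - fun _ => (1 : ℂ) : Y → ℂ) 1 = (deg (permChar Y W - fun _ => (1 : ℂ)) : ℂ) :=
      irr_apply_one_eq_deg (⟨_, h⟩ : IrrCharacter Y)
    refine Nat.cast_injective (R := ℂ) (hd.symm.trans ?_)
    rw [Pi.sub_apply, permChar, show Nat.card (MulAction.fixedBy W (1 : Y)) = q + 1 from
      (Nat.card_congr (Equiv.subtypeUnivEquiv fun x => one_smul Y x)).trans hcard]
    push_cast; ring
  have hirrE : IsIrrCharacter E (permChar E W - fun _ => (1 : ℂ)) := irr_perm_sub_one hW3 fun P Q R hQ hR => by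
    obtain ⟨x, hx, hxe⟩ := htr P Q R hQ hR
    exact ⟨⟨(x : G), S.hyp.le x.2⟩, by rw [hact]; exact Sylow.smul_eq_iff_mem_normalizer.2 (Subgroup.le_normalizer hx),
      by rw [hact]; exact hxe⟩
  have hirr0 : IsIrrCharacter E₀ (permChar E₀ W - fun _ => (1 : ℂ)) := irr_perm_sub_one hW3 fun P Q R hQ hR => by
    obtain ⟨x, hx, hxe⟩ := htr P Q R hQ hR
    exact ⟨x, Sylow.smul_eq_iff_mem_normalizer.2 (Subgroup.le_normalizer hx), hxe⟩
  set a' : E := ⟨a, S.hyp.le hy.aE⟩ with ha'
  set N2 := Nat.card (MulAction.fixedBy W a') with hN2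
  have hN20 : N2 = Nat.card (MulAction.fixedBy W (⟨a, hy.aE⟩ : E₀)) :=
    Nat.card_congr (Equiv.subtypeEquivRight fun P => by
      show a' • P = P ↔ _
      rw [show a' • P = (⟨a, hy.aE⟩ : E₀) • P from hact ⟨a, hy.aE⟩ P]; rfl)
  -- an involution fixes none or two of the points
  have hN2v : N2 = 0 ∨ N2 = 2 := by
    have hval : ∃ e : ℤ, (e = 1 ∨ e = -1) ∧ (N2 : ℤ) - 1 = e := by
      rcases (show q = 5 ∨ 11 ≤ q by have := S.mod; have := S.five; omega) with h5 | hbig
      · -- six points, a centralizer of order four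
        have heven : 2 ∣ N2 := by
          have ha2 : a' * a' = 1 := Subtype.ext (AbCentMax.aa S.hyp hy)
          letI := Fintype.ofFinite W
          have hinv : Function.Involutive (fun P : W => a' • P) := fun P => by
            show a' • a' • P = P
            rw [smul_smul, ha2, one_smul]
          have h := Equiv.Perm.card_fixedPoints_modEq (α := W) (p := 2) (n := 1)
            (f := fun P : W => a' • P) (funext fun P => hinv P)
          rw [hN2, Nat.card_eq_fintype_card, ← Nat.modEq_zero_iff_dvd]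
          refine (Nat.ModEq.trans ?_ h.symm).trans (Nat.modEq_zero_iff_dvd.2 ?_)
          · rw [← Nat.card_eq_fintype_card, ← Nat.card_eq_fintype_card]
            exact congrArg (· % 2) (Nat.card_congr (Equiv.subtypeEquivRight fun P => Iff.rfl))
          · rw [← Nat.card_eq_fintype_card, hcard, ← hqdef, h5]; norm_num
        have hcent : Nat.card (Subgroup.centralizer ({(⟨a, hy.aE⟩ : E₀)} : Set E₀)) = 4 := by
          have h := (PSL.involution_centralizer hodd (show orderOf (f ⟨a, hy.aE⟩) = 2 by rw [f.orderOf_eq, ha0])).2.1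
          rw [← hqdef, h5] at h
          simp only [Nat.reduceMod, Nat.reduceSub, reduceIte] at h
          rw [← h]
          refine Nat.card_congr (f.toEquiv.subtypeEquiv fun x => ?_)
          rw [Subgroup.mem_centralizer_singleton_iff, Subgroup.mem_centralizer_singleton_iff, MulEquiv.toEquiv_eq_coe,
            EquivLike.coe_coe, ← map_mul, ← map_mul, f.injective.eq_iff]
        let θ₀ : IrrCharacter E₀ := ⟨_, hirr0⟩
        have hne : principal E₀ ≠ θ₀ := fun e => by
          have := hdeg hirr0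
          rw [show (permChar E₀ W - fun _ => (1 : ℂ)) = ((principal E₀ : IrrCharacter E₀) : E₀ → ℂ) from
            (congrArg Subtype.val e).symm, PSL.deg_principal, h5] at this
          omega
        have hsum := second_orthogonality (G := E₀) (⟨a, hy.aE⟩ : E₀) (⟨a, hy.aE⟩ : E₀)
        rw [if_pos (IsConj.refl _), hcent] at hsum
        have hb : ((N2 : ℝ) - 1) ^ 2 ≤ 3 := by
          have hre : ∑ χ : IrrCharacter E₀, Complex.normSq ((χ : E₀ → ℂ) ⟨a, hy.aE⟩) = (4 : ℝ) := by
            have := congrArg Complex.re hsum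
            simpa [Complex.mul_conj] using this
          have h2' := Finset.add_le_sum (f := fun χ : IrrCharacter E₀ => Complex.normSq ((χ : E₀ → ℂ) ⟨a, hy.aE⟩))
            (fun χ _ => Complex.normSq_nonneg _) (Finset.mem_univ (principal E₀)) (Finset.mem_univ θ₀) hne
          rw [hre, PSL.principal_apply, show (θ₀ : E₀ → ℂ) ⟨a, hy.aE⟩ = (((N2 : ℝ) - 1 : ℝ) : ℂ) by
            push_cast; rw [hN20]; rfl, Complex.normSq_ofReal, Complex.normSq_one] at h2'
          nlinarith
        obtain ⟨k, hk⟩ := heven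
        have hk1 : k ≤ 1 := by
          by_contra hk1
          have : (4 : ℝ) ≤ (N2 : ℝ) := by exact_mod_cast (show 4 ≤ N2 by omega)
          nlinarith
        interval_cases k <;> rw [hk]
        · exact ⟨-1, Or.inr rfl, rfl⟩
        · exact ⟨1, Or.inl rfl, rfl⟩
      · obtain ⟨-, R, -⟩ := pslSpec_rows S.mod hbig ⟨f⟩
        have e := R.only_St ⟨_, hirr0⟩ (hdeg hirr0)
        have hv := (R.even (⟨a, hy.aE⟩ : E₀) (by rw [ha0]; decide)).1
        rw [← e] at hv
        refine ⟨PSL.sgn F, by unfold PSL.sgn; split_ifs <;> simp, ?_⟩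
        apply Int.cast_injective (α := ℂ)
        rw [← hv]
        push_cast
        rw [hN20]
        rfl
    obtain ⟨e, he, hN⟩ := hval
    omega
  -- the sign at all elements of even order
  have hconst : ∀ g : E, 2 ∣ orderOf g → Nat.card (MulAction.fixedBy W g) = N2 := by
    intro g hg
    obtain ⟨P, T', -, -, -, hexp, -⟩ := S.exists_klein
    obtain ⟨x, s, hx, hs, hxs, he, hxg, hsg⟩ := Cfsg.Lib.TwoTimesPSL.exists_split g
    have hxo : orderOf x = 2 := by
      refine orderOf_eq_prime ?_ fun e => ?_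
      · obtain ⟨R, hR⟩ := hx.isPGroup.exists_le_sylow
        obtain ⟨c, hc⟩ := MulAction.exists_smul_eq E R P
        have hxP : c * x * c⁻¹ ∈ P := hc ▸ ⟨x, hR (Subgroup.mem_zpowers x), rfl⟩
        have h := hexp _ hxP
        rwa [show c * x * c⁻¹ * (c * x * c⁻¹) = c * (x * x) * c⁻¹ by group, conj_eq_one_iff, ← pow_two] at h
      · rw [e, one_mul] at he
        exact Nat.not_even_iff_odd.2 (he ▸ hs) (even_iff_two_dvd.2 hg)
    have hxN : Nat.card (MulAction.fixedBy W x) = N2 := by
      obtain ⟨-, c, hc, hca⟩ := S.conj_E hxo (show orderOf a' = 2 by rw [Subgroup.orderOf_mk, hy.ao])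
      have hconj : IsConj x a' := isConj_iff.2 ⟨⟨c, S.hyp.le hc⟩, Subtype.ext hca⟩
      exact Nat.cast_injective (R := ℂ)
        (classFunction_eq_of_isConj (isClassFunction_isChar (isCharacter_permChar (G := E) W)) hconj)
    rw [← hxN]
    refine Nat.card_congr (Equiv.subtypeEquivRight fun Q => ?_)
    show g • Q = Q ↔ x • Q = Q
    constructor
    · intro h
      have hmem : g ∈ MulAction.stabilizer E Q := h
      exact Subgroup.zpowers_le.2 hmem hxg
    · intro h
      have hxsQ : x • (s • Q) = s • Q := by rw [smul_smul, hxs.eq, mul_smul, h]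
      have hs2 : s • s • Q = Q ∨ s • Q = Q := by
        by_cases hsQ : s • Q = Q
        · exact Or.inr hsQ
        refine Or.inl ?_
        have hxssQ : x • (s • s • Q) = s • s • Q := by rw [smul_smul, hxs.eq, mul_smul, hxsQ]
        by_contra hne
        letI := Fintype.ofFinite (MulAction.fixedBy W x)
        have h3 : 2 < Fintype.card (MulAction.fixedBy W x) := Fintype.two_lt_card_iff.2
          ⟨⟨Q, h⟩, ⟨s • Q, hxsQ⟩, ⟨s • s • Q, hxssQ⟩, fun e => hsQ (congrArg Subtype.val e).symm,
            fun e => hne (congrArg Subtype.val e).symm,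
            fun e => hsQ (MulAction.injective s (congrArg Subtype.val e).symm)⟩
        rw [← Nat.card_eq_fintype_card, hxN] at h3
        omega
      have hsQ : s • Q = Q := by
        rcases hs2 with h' | h'
        · obtain ⟨j, hj⟩ := hs
          have hmem : s * s ∈ MulAction.stabilizer E Q := by
            rw [MulAction.mem_stabilizer_iff, mul_smul, h']
          have hs' : s = (s * s) ^ (j + 1) := by
            rw [← pow_two, ← pow_mul, show 2 * (j + 1) = orderOf s + 1 by omega, pow_succ, pow_orderOf_eq_one, one_mul]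
          rw [hs']
          exact Subgroup.pow_mem _ hmem _
        · exact h'
      rw [← he, mul_smul, hsQ, h]
  set ε : ℤ := if q % 8 = 5 then 1 else -1 with hε
  let θ : IrrCharacter E := ⟨_, hirrE⟩
  have hθval : ∀ g : E, 2 ∣ orderOf g → (θ : E → ℂ) g = (((N2 : ℤ) - 1 : ℤ) : ℂ) := fun g hg => by
    show permChar E W g - 1 = _
    rw [permChar, hconst g hg]
    push_cast
    ring
  have hsgn : (N2 : ℤ) - 1 = ε := by
    obtain ⟨P, -, -, -, h4, hexp, -⟩ := S.exists_klein
    have h := klein_deg_congr h4 hexp hM (fun x y hx hy' => by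
      obtain ⟨-, g, hg, hgab⟩ := S.conj_E hx hy'
      exact isConj_iff.2 ⟨⟨g, S.hyp.le hg⟩, Subtype.ext hgab⟩) hθval
    rw [show deg (θ : E → ℂ) = q from hdeg hirrE] at h
    have := S.mod
    rw [hε]
    split_ifs <;> omega
  refine ⟨θ, ?_, hdeg hirrE, fun g hg => by rw [hθval g hg, hsgn], fun y => ?_⟩
  · exact mem_principal_of_even hM (Int.cast_ne_zero.2 (by rw [hsgn, hε]; split_ifs <;> norm_num))
      (show orderOf a' = 2 by rw [Subgroup.orderOf_mk, hy.ao]) hθval
  · show permChar E W y - 1 = _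
    rw [permChar]
    congr 2
    refine Nat.card_congr (Equiv.subtypeEquivRight fun P => ?_)
    show y • P = P ↔ _
    have hmap : ((y • P : W) : Subgroup E₀).map E₀.subtype =
        ((P : Subgroup E₀).map E₀.subtype).map (MulAut.conj (y : G)).toMonoidHom := by
      rw [Sylow.pointwise_smul_def, Subgroup.map_map]
      show Subgroup.map E₀.subtype (Subgroup.map (S.actE y).toMonoidHom (P : Subgroup E₀)) = _
      rw [Subgroup.map_map]
      rfl
    constructor
    · intro h
      refine Subgroup.mem_normalizer_iff.2 fun w => ?_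
      rw [h] at hmap
      constructor
      · intro hw
        rw [hmap]
        exact ⟨w, hw, rfl⟩
      · intro hw
        rw [hmap] at hw
        obtain ⟨w', hw', e⟩ := hw
        rwa [← (MulAut.conj (y : G)).injective e]
    · intro h
      refine Sylow.ext (Subgroup.map_injective E₀.subtype_injective ?_)
      rw [hmap, map_conj_of_mem_normalizer h]

end Cfsg.Lib.Ree.Twist
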