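import Cfsg.Agent.Ree.Twist.Block
import Cfsg.Agent.Ree.Twist.Steinberg
import Cfsg.Agent.Ree.Field.Spec

/-!
The twisted section: the target.
-/

set_option autoImplicit false
set_option linter.style.haveILetI false
set_option linter.unusedSectionVars false

namespace Cfsg.Lib.Ree.Twist

open Cfsg Cfsg.Lib.Chars Cfsg.Lib.Blocks
open scoped _root_.Classical

universe u v

/-- Renumbering the members. -/
noncomputable def KTable.reindex {X : Type u} [Group X] [Fintype X] {M : Ideal AlgInt} (K : KTable X M)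
    (σ : Equiv.Perm (Fin 4)) (h0 : σ 0 = 0) : KTable X M where
  mem := K.mem ∘ σ
  sg := K.sg ∘ σ
  inj := K.inj.comp σ.injective
  block χ := (K.block χ).trans
    ⟨fun ⟨i, hi⟩ => ⟨σ.symm i, by simpa using hi⟩, fun ⟨i, hi⟩ => ⟨σ i, hi⟩⟩
  first := by simp [h0, K.first]
  sg_first := by simp [h0, K.sg_first]
  sg_sq i := K.sg_sq (σ i)
  even i g hg := K.even (σ i) g hg
  regular g hg := by
    rw [← K.regular g hg]
    exact Equiv.sum_comp σ (fun i => (K.sg i : ℂ) * (K.mem i : X → ℂ) g)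

variable {G : Type u} [Group G] [Fintype G] {t : G} {E E₀ : Subgroup G} [Fintype E] {F : Type v} [Field F]
  [Fintype F] (S : Setting t E E₀ F)
include S

/-- The degrees: `q` for the member `1`, `(q ± 1)/2` for the members `2`, `3`. -/
theorem Setting.degrees (hab : ∀ a ∈ E, ∀ b ∈ E, a * b * a⁻¹ * b⁻¹ ∈ E₀) {M : Ideal AlgInt}
    (hM : IsPModular 2 M) (K : KTable E M) (h1 : deg (K.mem 1 : E → ℂ) = Fintype.card F)
    (hs1 : K.sg 1 = if Fintype.card F % 8 = 5 then 1 else -1) (i : Fin 4) (hi : i = 2 ∨ i = 3) :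
    (K.sg i : ℤ) * deg (K.mem i : E → ℂ) = -midVal (signedCard F) := by
  obtain ⟨T, a, b, n, hy⟩ := AbCentMax.exists_sys S.hyp S.ab
  obtain ⟨P, -, -, -, h4, hexp, -⟩ := S.exists_klein
  have hone : ∀ x y : E, orderOf x = 2 → orderOf y = 2 → IsConj x y := fun x y hx hy' => by
    obtain ⟨-, g, hg, hgab⟩ := S.conj_E hx hy'
    exact isConj_iff.2 ⟨⟨g, S.hyp.le hg⟩, Subtype.ext hgab⟩
  have hcong : ∀ j, (4 : ℤ) ∣ (deg (K.mem j : E → ℂ) : ℤ) - K.sg j := fun j =>
    klein_deg_congr h4 hexp hM hone fun g hg => K.even j g hg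
  have hsum : (1 : ℤ) + K.sg 1 * Fintype.card F + K.sg 2 * deg (K.mem 2 : E → ℂ) +
      K.sg 3 * deg (K.mem 3 : E → ℂ) = 0 := by
    have h := K.regular 1 (by simp)
    simp only [irr_apply_one_eq_deg, Fin.sum_univ_four, h1] at h
    rw [K.first, K.sg_first, PSL.deg_principal] at h
    apply Int.cast_injective (α := ℂ)
    push_cast
    simpa using h
  have hsgn : ∀ j, K.sg j = 1 ∨ K.sg j = -1 := fun j => mul_self_eq_one_iff.1 (K.sg_sq j)
  have hmod := S.mod
  have hfive := S.five
  have hQ : signedCard F = K.sg 1 * Fintype.card F := by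
    rw [hs1, signedCard]
    rcases hmod with h | h
    · rw [if_neg (by omega), if_neg (by omega)]; ring
    · rw [if_pos h, if_pos h]; ring
  haveI hnor : (E₀.subgroupOf E).Normal := S.normal_E₀
  letI := Fintype.ofFinite (E₀.subgroupOf E)
  have hirr : ∀ j, IsIrrCharacter (E₀.subgroupOf E) (fun m : E₀.subgroupOf E => (K.mem j : E → ℂ) m) := by
    intro j
    refine restrict_irreducible (E₀.subgroupOf E) (fun x y => hab x x.2 y y.2) (K.mem j) fun ν hν heq => ?_
    have hν' : ∀ e : E, (e : G) ∈ E₀ → ν e = 1 := fun e he => hν e he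
    have hmem : K.mem j ∈ linBlock M ν := by
      rw [mem_linBlock, show twistIrr ν⁻¹ (K.mem j) = K.mem j from Subtype.ext (by
        show twist ν⁻¹ (K.mem j : E → ℂ) = _
        nth_rw 1 [← heq]
        rw [twist_twist, hom_inv_mul, twist_one])]
      exact (K.block _).2 ⟨j, rfl⟩
    refine S.eq_one_of_principal hM hν' ?_
    have e := IsPBlock.eq_of_mem_inter hM (isPBlock_linBlock M ν)
      (isPBlock_blockOf (principal E) : IsPBlock M (principalBlock M E)) hmem ((K.block _).2 ⟨j, rfl⟩)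
    rw [show principalBlock M E = linBlock M ν from e.symm]
    exact mem_blockOf_self hM (⟨_, isIrrCharacter_linear ν⟩ : IrrCharacter E)
  -- a linear member is principal
  have hlin : ∀ j, deg (K.mem j : E → ℂ) = 1 →
      (∀ m : E₀.subgroupOf E, (K.mem j : E → ℂ) m = 1) → j = 0 := by
    intro j hj hm
    obtain ⟨μ, hμ⟩ := exists_hom_of_deg_one (isCharacter_of_irr (K.mem j).2)
      (by rw [irr_apply_one_eq_deg, hj, Nat.cast_one])
    have hμ' : ∀ e : E, (e : G) ∈ E₀ → μ e = 1 := fun e he => Units.ext (by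
      rw [Units.val_one, ← congrFun hμ e]
      exact hm ⟨e, he⟩)
    have e : K.mem j = (⟨_, isIrrCharacter_linear μ⟩ : IrrCharacter E) := Subtype.ext hμ
    have h1' := S.eq_one_of_principal hM hμ' (e ▸ (K.block _).2 ⟨j, rfl⟩)
    refine K.inj (Subtype.ext ?_)
    rw [K.first, hμ, h1']
    funext g
    simp [principal]
  rcases (show Fintype.card F = 5 ∨ 11 ≤ Fintype.card F by omega) with h5 | hbig
  · -- `q = 5`: `E = E₀` has order 60
    haveI : Fact (Nat.Prime 5) := ⟨by norm_num⟩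
    have hrel : E₀.relIndex E = 1 := Nat.dvd_one.1 (S.relIndex_dvd (p := 5) (f := 1) (by rw [h5]; norm_num))
    have hEq : E ≤ E₀ := Subgroup.relIndex_eq_one.1 hrel
    have hcardE : Nat.card E = 60 := by
      rw [le_antisymm hEq S.hyp.le]
      have h := (PSL.involution_centralizer S.hyp.odd (show orderOf (S.iso ⟨a, hy.aE⟩) = 2 by
        rw [MulEquiv.orderOf_eq, Subgroup.orderOf_mk, hy.ao])).1
      rw [h5, ← Nat.card_congr S.iso.toEquiv] at h
      omega
    have hsq : ∑ j, (deg (K.mem j : E → ℂ) : ℤ) ^ 2 ≤ 60 := by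
      have h := sum_deg_sq (G := E)
      simp only [irr_apply_one_eq_deg] at h
      rw [hcardE] at h
      have h' : ∑ χ : IrrCharacter E, deg (χ : E → ℂ) ^ 2 = 60 := by exact_mod_cast h
      have h'' : ∑ j, deg (K.mem j : E → ℂ) ^ 2 ≤ 60 := by
        rw [← h', ← Finset.sum_image (f := fun χ : IrrCharacter E => deg (χ : E → ℂ) ^ 2) K.inj.injOn]
        exact Finset.sum_le_sum_of_subset (Finset.subset_univ _)
      exact_mod_cast h''
    rw [Fin.sum_univ_four, h1, h5] at hsq
    rw [K.first, PSL.deg_principal] at hsq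
    push_cast at hsq
    have hb : ∀ d : ℕ, (d : ℤ) ^ 2 ≤ 34 → d ≤ 5 := fun d hd => by
      by_contra hc
      have : (36 : ℤ) ≤ (d : ℤ) ^ 2 := by
        have : (6 : ℤ) ≤ d := by exact_mod_cast (show 6 ≤ d by omega)
        nlinarith
      omega
    have b2 := hb _ (by nlinarith [sq_nonneg (deg (K.mem 3 : E → ℂ) : ℤ)])
    have b3 := hb _ (by nlinarith [sq_nonneg (deg (K.mem 2 : E → ℂ) : ℤ)])
    have c2 := hcong 2
    have c3 := hcong 3
    rw [h5] at hsum hQ
    rw [hs1, h5] at hsum hQ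
    norm_num at hsum hQ
    rw [hQ, midVal]
    rcases hi with rfl | rfl
    all_goals
      generalize deg (K.mem 2 : E → ℂ) = d2 at *
      generalize deg (K.mem 3 : E → ℂ) = d3 at *
      rcases hsgn 2 with e2 | e2 <;> rcases hsgn 3 with e3 | e3 <;> simp only [e2, e3] at * <;> omega
  · -- the restriction lies among the four characters of `E₀`
    obtain ⟨-, R, -⟩ := pslSpec_rows (X := E₀.subgroupOf E) S.mod hbig
      ⟨(Subgroup.subgroupOfEquivOfLe S.hyp.le).trans S.iso⟩
    set Mc := (((Fintype.card F : ℤ) * PSL.sgn F + 1) / 2).natAbs with hMc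
    have key : ∀ j : Fin 4, j ≠ 0 →
        deg (K.mem j : E → ℂ) = Fintype.card F ∨ deg (K.mem j : E → ℂ) = Mc := by
      intro j hj
      let φ : IrrCharacter (E₀.subgroupOf E) := ⟨_, hirr j⟩
      have hdφ : deg (φ : E₀.subgroupOf E → ℂ) = deg (K.mem j : E → ℂ) := by
        apply Nat.cast_injective (R := ℂ)
        rw [← irr_apply_one_eq_deg, ← irr_apply_one_eq_deg]
        rfl
      have hz : orderOf (⟨⟨a, S.hyp.le hy.aE⟩, Subgroup.mem_subgroupOf.2 hy.aE⟩ : E₀.subgroupOf E) = 2 := by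
        rw [← Subgroup.orderOf_coe, ← Subgroup.orderOf_coe]
        exact hy.ao
      have hφ : φ ∈ principalBlock M (E₀.subgroupOf E) :=
        mem_principal_of_even hM (c := (K.sg j : ℂ)) (Int.cast_ne_zero.2 (by rcases hsgn j with e | e <;> rw [e] <;> norm_num))
          hz fun g hg => K.even j g (by rwa [Subgroup.orderOf_coe])
      rcases (R.block M hM φ).1 hφ with e | e | e | e
      · exfalso
        refine hj (hlin j ?_ fun m => ?_)
        · rw [← hdφ, e, PSL.deg_principal]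
        · show (φ : E₀.subgroupOf E → ℂ) m = 1
          rw [e, PSL.principal_apply]
      · exact Or.inl (by rw [← hdφ, e, R.deg_St])
      · exact Or.inr (by rw [← hdφ, e, R.deg_a])
      · exact Or.inr (by rw [← hdφ, e, R.deg_b])
    have c2 := hcong 2
    have c3 := hcong 3
    have k2 := key 2 (by decide)
    have k3 := key 3 (by decide)
    rw [hQ, midVal]
    rw [hs1] at hsum ⊢
    rcases hi with rfl | rfl
    all_goals
      generalize deg (K.mem 2 : E → ℂ) = d2 at *
      generalize deg (K.mem 3 : E → ℂ) = d3 at *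
      rw [hMc, PSL.sgn] at k2 k3
      rcases hmod with hq | hq <;>
        simp only [hq, reduceIte, show (3 : ℕ) ≠ 5 from by norm_num] at * <;>
        rcases hsgn 2 with e2 | e2 <;> rcases hsgn 3 with e3 | e3 <;>
        simp only [e2, e3] at * <;> omega

end Cfsg.Lib.Ree.Twist

namespace Cfsg.Lib.Ree.Field

open Cfsg Cfsg.Lib.Chars Cfsg.Lib.Blocks

universe u

/-- The piece. -/
theorem twistSpec : TwistSpec.{u} := by
  intro G _ _ t E E₀ _ F _ _ S hab M hM
  classical
  obtain ⟨K₀⟩ := S.exists_table hM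
  obtain ⟨p, hp⟩ := CharP.exists F
  obtain ⟨n, hpr, hF⟩ := FiniteField.card F p
  haveI : Fact p.Prime := ⟨hpr⟩
  obtain ⟨θ, hθ, hdeg, hev, hval⟩ := S.exists_steinberg hM hF
  obtain ⟨i, hi⟩ := (K₀.block θ).1 hθ
  have hi0 : i ≠ 0 := fun e => by
    rw [e, K₀.first] at hi
    have := S.five
    rw [← hi, PSL.deg_principal] at hdeg
    omega
  set K := K₀.reindex (Equiv.swap 1 i) (Equiv.swap_apply_of_ne_of_ne (by decide) (Ne.symm hi0)) with hK
  have hm1 : K.mem 1 = θ := by
    show K₀.mem (Equiv.swap 1 i 1) = θ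
    rw [Equiv.swap_apply_left, hi]
  obtain ⟨T, a, b, nn, hy⟩ := AbCentMax.exists_sys S.hyp S.ab
  have hs1 : K.sg 1 = cardSign F := by
    apply Int.cast_injective (α := ℂ)
    rw [← K.even 1 ⟨a, S.hyp.le hy.aE⟩ (by rw [Subgroup.orderOf_mk, hy.ao]), hm1]
    exact hev _ (by rw [Subgroup.orderOf_mk, hy.ao])
  refine ⟨K, ⟨fun p' n' hp' hn' y => ?_, ?_, fun μ hμ χ hχ => ?_⟩⟩
  · have hpp : p' = p := by
      have h : p' ∣ Fintype.card F := hn' ▸ dvd_pow_self p' (by
        rintro rfl
        have := S.five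
        rw [pow_zero] at hn'
        omega)
      rw [hF] at h
      exact (Nat.prime_dvd_prime_iff_eq hp' hpr).1 (hp'.dvd_of_dvd_pow h)
    subst hpp
    rw [Twist.KTable.ps, Pi.smul_apply, smul_eq_mul, hs1, hm1, hval y]
    rfl
  · have hd : ∀ j : Fin 4, j = 2 ∨ j = 3 → -(K.ps j 1) = (midVal (signedCard F) : ℂ) := fun j hj => by
      have h := congrArg (fun z : ℤ => (z : ℂ)) (S.degrees hab hM K (by rw [hm1, hdeg]) hs1 j hj)
      simp only [Int.cast_mul, Int.cast_natCast, Int.cast_neg] at h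
      rw [Twist.KTable.ps, Pi.smul_apply, smul_eq_mul, irr_apply_one_eq_deg, h, neg_neg]
    exact ⟨hd 2 (Or.inl rfl), hd 3 (Or.inr rfl)⟩
  · obtain ⟨B, hB⟩ := S.exists_blk hM μ
    have hin : χ ∈ B := by
      by_contra hout
      obtain ⟨h1, h2, h3⟩ := S.coord_outside hM hB K hout
      rcases hχ with h | h | h <;> exact h (by assumption)
    refine ⟨fun y hy' => S.value_inside hM hB K hin hy', fun μ' hμ' hne => ?_⟩
    obtain ⟨B', hB'⟩ := S.exists_blk hM μ'
    refine S.coord_outside hM hB' K fun hin' => hne ?_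
    have e : B' = B := IsPBlock.eq_of_mem_inter hM hB'.2.1 hB.2.1 hin' hin
    exact S.blk_injective hM hμ' hμ (e ▸ hB') hB

end Cfsg.Lib.Ree.Field
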