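import Cfsg.Agent.Walter.TypeJR
import Cfsg.Agent.Ree.PSL.Spec

/-!
The configuration with `C(t) = ⟨t⟩ × E`, `PSL(2, q) ≅ E₀ ⊴ E` of odd index: the group facts.
-/

set_option autoImplicit false
set_option linter.style.haveILetI false
set_option linter.unusedSectionVars false

namespace Cfsg.Lib.Ree.Twist

open Subgroup

universe u v

/-- The configuration. -/
structure Setting {G : Type u} [Group G] [Finite G] (t : G) (E E₀ : Subgroup G) (F : Type v) [Field F]
    [Fintype F] : Prop where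
  simple : IsSimpleGroup G
  nab : ¬ IsMulCommutative G
  ab : ∀ S : Sylow 2 G, IsMulCommutative ↥(S : Subgroup G)
  hyp : AbCentMax.Hyp t E E₀ F
  mod : Fintype.card F % 8 = 3 ∨ Fintype.card F % 8 = 5
  five : 5 ≤ Fintype.card F

variable {G : Type u} [Group G] [Finite G] {t : G} {E E₀ : Subgroup G} {F : Type v} [Field F] [Fintype F]
  (S : Setting t E E₀ F)
include S

theorem Setting.mem_C {x : G} : x ∈ centralizer ({t} : Set G) ↔ Commute t x := by
  rw [mem_centralizer_singleton_iff]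
  exact ⟨fun h => h.symm, fun h => h.eq.symm⟩

theorem Setting.E_le_C : E ≤ centralizer ({t} : Set G) := fun e he => S.mem_C.2 (S.hyp.comm e he)

theorem Setting.t_mem_C : t ∈ centralizer ({t} : Set G) := S.mem_C.2 (Commute.refl t)

theorem Setting.tt : t * t = 1 := S.hyp.tt

theorem Setting.orderOf_coe {y : E} : orderOf (y : G) = orderOf y := Subgroup.orderOf_coe y

theorem Setting.not_dvd {y : E} (hy : Odd (orderOf y)) : ¬ 2 ∣ orderOf (y : G) := by
  rw [S.orderOf_coe]
  exact Nat.two_dvd_ne_zero.2 (Nat.odd_iff.1 hy)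

/-- An element of the centralizer is an element of `E`, possibly times `t`. -/
theorem Setting.split {x : G} (hx : Commute t x) : ∃ e ∈ E, x = e ∨ x = t * e := S.hyp.split x hx.symm

theorem Setting.split_unique {e e' : G} (he : e ∈ E) (he' : e' ∈ E) : e ≠ t * e' := fun h =>
  S.hyp.disj (by rw [show t = e * e'⁻¹ by rw [h]; group]; exact mul_mem he (inv_mem he'))

/-- The centralizer as a product. -/
noncomputable def Setting.equivC : Bool × E ≃ centralizer ({t} : Set G) :=
  Equiv.ofBijective (fun w => ⟨(if w.1 then t else 1) * (w.2 : G),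
      mul_mem (by cases w.1 <;> simp [S.t_mem_C]) (S.E_le_C w.2.2)⟩)
    ⟨by
      rintro ⟨b, e⟩ ⟨b', e'⟩ h
      have h' := congrArg Subtype.val h
      dsimp only at h'
      cases b <;> cases b' <;> simp only [Bool.false_eq_true, if_false, if_true, one_mul] at h'
      · exact Prod.ext rfl (Subtype.ext h')
      · exact absurd h' (S.split_unique e.2 e'.2)
      · exact absurd h'.symm (S.split_unique e'.2 e.2)
      · exact Prod.ext rfl (Subtype.ext (mul_left_cancel h')),
    fun x => by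
      obtain ⟨e, he, hxe | hxe⟩ := S.split (S.mem_C.1 x.2)
      · exact ⟨(false, ⟨e, he⟩), Subtype.ext (by simp [hxe])⟩
      · exact ⟨(true, ⟨e, he⟩), Subtype.ext (by simp [hxe])⟩⟩

theorem Setting.equivC_apply (w : Bool × E) :
    ((S.equivC w : centralizer ({t} : Set G)) : G) = (if w.1 then t else 1) * (w.2 : G) := rfl

theorem Setting.card_C : Nat.card (centralizer ({t} : Set G)) = 2 * Nat.card E := by
  rw [← Nat.card_congr S.equivC, Nat.card_prod, Nat.card_eq_fintype_card (α := Bool), Fintype.card_bool]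

theorem Setting.index_odd : Odd (centralizer ({t} : Set G)).index := by
  haveI : Fact (Nat.Prime 2) := ⟨Nat.prime_two⟩
  obtain ⟨T, a, b, n, hs⟩ := AbCentMax.exists_sys S.hyp S.ab
  rw [Nat.odd_iff, ← Nat.two_dvd_ne_zero]
  exact fun h => T.not_dvd_index (h.trans (index_dvd_of_le fun x hx => S.mem_C.2 (hs.tcomm t hs.tT x hx)))

theorem Setting.abTwo : Walter.AbTwo G := fun P a ha b hb => by
  haveI := S.ab P
  exact congrArg Subtype.val (mul_comm' (⟨a, ha⟩ : (P : Subgroup G)) ⟨b, hb⟩)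

/-- The Sylow 2-subgroup of `E`, inside `E₀`. -/
theorem Setting.exists_klein : ∃ (P : Sylow 2 E) (T : Sylow 2 G), t ∈ T ∧ Nat.card (T : Subgroup G) = 8 ∧
    Nat.card (P : Subgroup E) = 4 ∧ (∀ u ∈ (P : Subgroup E), u * u = 1) ∧
    ∀ u ∈ (P : Subgroup E), (u : G) ∈ E₀ ∧ (u : G) ∈ T := by
  classical
  haveI : Fact (Nat.Prime 2) := ⟨Nat.prime_two⟩
  obtain ⟨T, a, b, n, hs⟩ := AbCentMax.exists_sys S.hyp S.ab
  obtain ⟨-, hT8⟩ := AbCentMax.three_dvd S.hyp hs
  have hTC : (T : Subgroup G) ≤ centralizer ({t} : Set G) := fun x hx => S.mem_C.2 (hs.tcomm t hs.tT x hx)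
  have hcases : ∀ x ∈ T, x ∈ E → x = 1 ∨ x = a ∨ x = b ∨ x = a * b := by
    intro x hx hxE
    obtain ⟨v, hv, rfl | rfl⟩ := hs.cases x hx
    · exact hv
    · refine absurd rfl (S.split_unique hxE (show v ∈ E from ?_))
      rcases hv with rfl | rfl | rfl | rfl
      exacts [one_mem _, S.hyp.le hs.aE, S.hyp.le hs.bE, mul_mem (S.hyp.le hs.aE) (S.hyp.le hs.bE)]
  set R := ((T : Subgroup G).subgroupOf E)
  have hRp : IsPGroup 2 R := T.isPGroup'.comap_of_injective _ E.subtype_injective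
  have ha1 : a ≠ 1 := fun e => by have := hs.ao; rw [e, orderOf_one] at this; omega
  have hb1 : b ≠ 1 := fun e => by have := hs.bo; rw [e, orderOf_one] at this; omega
  have haa : a * a = 1 := AbCentMax.aa S.hyp hs
  have hbb : b * b = 1 := AbCentMax.bb S.hyp hs
  have hab1 : a * b ≠ 1 := fun e => hs.ne (by
    rw [eq_inv_of_mul_eq_one_right e, inv_eq_of_mul_eq_one_right haa])
  have hE : ∀ x, (x = 1 ∨ x = a ∨ x = b ∨ x = a * b) → x ∈ E₀ ∧ x ∈ T := by
    rintro x (rfl | rfl | rfl | rfl)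
    exacts [⟨one_mem _, (T : Subgroup G).one_mem⟩, ⟨hs.aE, hs.aT⟩, ⟨hs.bE, hs.bT⟩,
      ⟨mul_mem hs.aE hs.bE, (T : Subgroup G).mul_mem hs.aT hs.bT⟩]
  have h4 : Nat.card R = 4 := by
    rw [Nat.card_congr (Equiv.ofBijective (fun x : R => (⟨((x : E) : G), hcases _ x.2 (x : E).2⟩ :
      {x : G // x = 1 ∨ x = a ∨ x = b ∨ x = a * b}))
      ⟨fun x y h => by
        have h' := congrArg Subtype.val h
        exact Subtype.ext (Subtype.ext h'),
       fun x => ⟨⟨⟨x.1, S.hyp.le (hE _ x.2).1⟩, (hE _ x.2).2⟩, rfl⟩⟩),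
      Nat.subtype_card ({1, a, b, a * b} : Finset G) (fun x => by simp),
      Finset.card_insert_of_notMem, Finset.card_insert_of_notMem, Finset.card_insert_of_notMem,
      Finset.card_singleton] <;> simp [ha1, hb1, hab1, hs.ne, ha1.symm, hb1.symm, hab1.symm]
  obtain ⟨P, hP⟩ := hRp.exists_le_sylow
  have hle : Nat.card (P : Subgroup E) ∣ 4 := by
    obtain ⟨j, hj⟩ := IsPGroup.iff_card.1 P.isPGroup'
    have h8 : Nat.card (P : Subgroup E) * 2 ∣ Nat.card (centralizer ({t} : Set G)) := by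
      rw [S.card_C, mul_comm]; exact Nat.mul_dvd_mul_left 2 (card_subgroup_dvd_card _)
    have hG : Nat.card (P : Subgroup E) * 2 ∣ Nat.card G := h8.trans (card_subgroup_dvd_card _)
    rw [hj, ← pow_succ] at hG
    have h := (Nat.prime_two.pow_dvd_iff_le_factorization Nat.card_pos.ne').1 hG
    have hT : (2 : ℕ) ^ (Nat.card G).factorization 2 = 2 ^ 3 := by rw [← T.card_eq_multiplicity, hT8]; norm_num
    rw [Nat.pow_right_injective le_rfl hT] at h
    rw [hj, show (4 : ℕ) = 2 ^ 2 from rfl]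
    exact pow_dvd_pow 2 (by omega)
  have hPR : (P : Subgroup E) = R := (eq_of_le_of_card_ge hP (by rw [h4]; exact Nat.le_of_dvd (by norm_num) hle)).symm
  refine ⟨P, T, hs.tT, hT8, hPR ▸ h4, fun u hu => ?_, fun u hu => hE _ (hcases _ (hPR ▸ hu : u ∈ R) u.2)⟩
  rw [hPR] at hu
  refine Subtype.ext ?_
  show (u : G) * (u : G) = 1
  rcases hcases _ hu u.2 with e | e | e | e <;> rw [show (u : G) = E.subtype u from rfl, e]
  · exact one_mul 1
  · exact haa
  · exact hbb
  · rw [show a * b * (a * b) = a * (b * a) * b by group, (hs.tcomm b hs.bT a hs.aT).eq,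
      show a * (a * b) * b = (a * a) * (b * b) by group, haa, hbb, one_mul]

/-- All involutions are conjugate. -/
theorem Setting.conj_all {s : G} (hs : orderOf s = 2) : IsConj t s := by
  classical
  haveI := S.simple
  haveI : Fact (Nat.Prime 2) := ⟨Nat.prime_two⟩
  obtain ⟨T, a, b, n, hy⟩ := AbCentMax.exists_sys S.hyp S.ab
  obtain ⟨-, h8⟩ := AbCentMax.three_dvd S.hyp hy
  obtain ⟨R, hR⟩ := (IsPGroup.of_card (G := zpowers s) (p := 2) (n := 1)
    (by rw [Nat.card_zpowers, hs, pow_one])).exists_le_sylow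
  obtain ⟨g, hg⟩ := MulAction.exists_smul_eq G R T
  have hsT : g * s * g⁻¹ ∈ T := hg ▸ ⟨s, hR (mem_zpowers s), rfl⟩
  refine IsConj.trans ?_ (isConj_iff.2 ⟨g, rfl⟩ : IsConj s (g * s * g⁻¹)).symm
  have hne : g * s * g⁻¹ ≠ 1 := fun e => by
    have h1 : orderOf (g * s * g⁻¹) = 2 := by rw [← MulAut.conj_apply, MulEquiv.orderOf_eq, hs]
    rw [e, orderOf_one] at h1; omega
  rcases AbCentMax.orbit_dichotomy S.hyp hy (H := ⊤) (fun x _ => mem_top x) with hiso | ⟨h1, -⟩
  · exfalso
    obtain ⟨N, hN, hNo, hcomm⟩ := Cfsg.Agent.S0215.result T t S.hyp.ord hy.tT (fun g => hiso g (mem_top g))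
    rcases IsSimpleGroup.eq_bot_or_eq_top_of_normal N hN with e | e
    · rcases IsSimpleGroup.eq_bot_or_eq_top_of_normal (center G) inferInstance with e' | e'
      · refine S.hyp.t_ne (mem_bot.1 (e' ▸ mem_center_iff.2 fun g => ?_))
        have := hcomm g
        rw [e, mem_bot, mul_inv_eq_one] at this
        exact (mul_inv_eq_iff_eq_mul.1 this).symm
      · exact S.nab ⟨⟨fun x y => (mem_center_iff.1 (e' ▸ mem_top y) x)⟩⟩
    · rw [e, card_top] at hNo
      exact Nat.not_even_iff_odd.2 hNo (even_iff_two_dvd.2 (Dvd.dvd.trans (by norm_num)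
        (h8 ▸ card_subgroup_dvd_card (T : Subgroup G))))
  · obtain ⟨k, -, -, hk⟩ := h1 _ hsT hne
    exact isConj_iff.2 ⟨k, hk⟩

/-- The involutions of `E` lie in `E₀` and are conjugate in `E₀`. -/
theorem Setting.conj_E {a b : E} (ha : orderOf a = 2) (hb : orderOf b = 2) :
    (a : G) ∈ E₀ ∧ ∃ g ∈ E₀, g * (a : G) * g⁻¹ = b := by
  haveI : Fact (Nat.Prime 2) := ⟨Nat.prime_two⟩
  obtain ⟨P, T, -, -, -, -, hPE⟩ := S.exists_klein
  have key : ∀ x : E, orderOf x = 2 → (x : G) ∈ E₀ := by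
    intro x hx
    obtain ⟨R, hR⟩ := (IsPGroup.of_card (G := zpowers x) (p := 2) (n := 1)
      (by rw [Nat.card_zpowers, hx, pow_one])).exists_le_sylow
    obtain ⟨g, hg⟩ := MulAction.exists_smul_eq E R P
    have hxP : g * x * g⁻¹ ∈ P := hg ▸ ⟨x, hR (mem_zpowers x), rfl⟩
    have h := S.hyp.norm' g.2 (hPE _ hxP).1
    simpa [mul_assoc] using h
  refine ⟨key a ha, S.hyp.conj (key a ha) (by rw [S.orderOf_coe, ha]) (key b hb) (by rw [S.orderOf_coe, hb])⟩

end Cfsg.Lib.Ree.Twist
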