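import Cfsg.Agent.Ree.Twist.Fusion
import Cfsg.Agent.Blocks.AbelianSubsections

/-!
The blocks of full defect of the centralizer of `t` induce different blocks of the group, and no other block of
the centralizer induces one of these.
-/

set_option autoImplicit false
set_option linter.style.haveILetI false
set_option linter.unusedSectionVars false

namespace Cfsg.Lib.Ree.Twist

open Cfsg Cfsg.Lib.Chars Cfsg.Lib.Blocks

universe u v

variable {G : Type u} [Group G] [Fintype G] {t : G} {E E₀ : Subgroup G} {F : Type v} [Field F] [Fintype F]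
  (S : Setting t E E₀ F)
include S

/-- **Separation.** A block of the centralizer which induces the same block as a block of full defect is that
block. -/
theorem Setting.separated {M : Ideal AlgInt} (hM : IsPModular 2 M) {H : Subgroup G}
    (hH : H = Subgroup.centralizer (Subgroup.zpowers t : Set G)) {b b₀ : Set (IrrCharacter H)}
    {B : Set (IrrCharacter G)} (hd : blockDefect 2 b₀ = 3) (hi₀ : IsInducedBlock M H b₀ B)
    (hi : IsInducedBlock M H b B) : b = b₀ := by
  classical
  haveI : Fact (Nat.Prime 2) := ⟨Nat.prime_two⟩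
  subst hH
  letI := Fintype.ofFinite ↥(Subgroup.centralizer (Subgroup.zpowers t : Set G))
  obtain ⟨T, a, a', n, hy⟩ := AbCentMax.exists_sys S.hyp S.ab
  have hT8 := S.card_T hy
  -- a defect group of the induced block is a Sylow subgroup
  obtain ⟨D, hD⟩ := exists_defectGroup hM hi₀.1
  have hD8 : Nat.card D = 2 ^ 3 := by rw [IsDefectGroup.card hM hi₀.1 hD, hd]
  obtain ⟨D', hD', hle⟩ := exists_defectGroup_ge_of_induced hM _ hi₀ hD
  obtain ⟨T', hT'⟩ := (IsDefectGroup.isPGroup hD').exists_le_sylow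
  obtain ⟨g₀, hg₀⟩ := MulAction.exists_smul_eq G T' T
  have hcardT' : Nat.card (T' : Subgroup G) = 8 := by
    rw [T'.card_eq_multiplicity, ← T.card_eq_multiplicity, hT8]
  have hD'T : D' = (T' : Subgroup G) := Subgroup.eq_of_le_of_card_ge hT' (by
    rw [hcardT']
    calc 8 = Nat.card (D.map (Subgroup.centralizer (Subgroup.zpowers t : Set G)).subtype) := by
          rw [Subgroup.card_map_of_injective (Subgroup.subtype_injective _), hD8]; norm_num
      _ ≤ Nat.card D' := Subgroup.card_le_of_le hle)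
  subst hD'T
  have hDT : IsDefectGroup 2 M B (T : Subgroup G) := by
    have h := IsDefectGroup.conj hM hi₀.2.1 hD' g₀
    rwa [← hg₀]
  obtain ⟨c, hmax⟩ := exists_pair_of_defect hM hi₀.2.1 hDT
  have hc := hmax.1
  have hab : ∀ x ∈ (T : Subgroup G), ∀ y ∈ (T : Subgroup G), x * y = y * x := fun x hx y hy' =>
    (hy.tcomm x hx y hy').eq
  have hP : IsPGroup 2 (Subgroup.zpowers t) :=
    IsPGroup.of_card (n := 1) (by rw [Nat.card_zpowers, S.hyp.ord, pow_one])
  obtain ⟨g, y, fy, hyT, hfy, hgy, hgf⟩ := exists_below_conj hM hDT hc hab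
    ((isBrauerPairOf_iff hM B _ b).2 ⟨hP, hi⟩)
  obtain ⟨g', y', fy', hyT', hfy', hgy', hgf'⟩ := exists_below_conj hM hDT hc hab
    ((isBrauerPairOf_iff hM B _ b₀).2 ⟨hP, hi₀⟩)
  have hy1 : y ≠ 1 := fun e => S.hyp.t_ne (by rw [← hgy, e, mul_one, mul_inv_cancel])
  have hy1' : y' ≠ 1 := fun e => S.hyp.t_ne (by rw [← hgy', e, mul_one, mul_inv_cancel])
  obtain ⟨k, hk, hky⟩ := S.exists_move hy hyT hy1 hyT' hy1'
  subst hky
  -- such an element fixes the block of the pair
  have hct : cj k (bi M _ c) = bi M (Subgroup.centralizer ((T : Subgroup G) : Set G)) c := by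
    refine fn_ext fun x => ?_
    rw [fn_cj]
    by_cases hx : x ∈ Subgroup.centralizer ((T : Subgroup G) : Set G)
    · by_cases ho : Odd (orderOf x)
      · congr 1
        rw [mul_assoc, ← (hk.2 x hx ho).eq, inv_mul_cancel_left]
      · have hx' : k⁻¹ * x * k ∈ Subgroup.centralizer ((T : Subgroup G) : Set G) := by
          have h := normalizer_conj_centralizer (inv_mem hk.1) hx
          rwa [inv_inv] at h
        letI := Fintype.ofFinite ↥(Subgroup.centralizer ((T : Subgroup G) : Set G))
        have hz : ∀ z (hz : z ∈ Subgroup.centralizer ((T : Subgroup G) : Set G)), ¬ Odd (orderOf z) →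
            fn (bi M (Subgroup.centralizer ((T : Subgroup G) : Set G)) c) z = 0 := by
          intro z hz hzo
          rw [bi, fn_ofFn, subgroupBlockCoeff, dif_pos hz, blockCoeff_eq_zero_of_singular hM hc.1.2
            (by rw [Subgroup.orderOf_mk]; exact even_iff_two_dvd.1 (Nat.not_odd_iff_even.1 hzo)), res_zero]
        rw [hz x hx ho, hz _ hx' (by
          rw [show k⁻¹ * x * k = MulAut.conj k⁻¹ x by simp, MulEquiv.orderOf_eq]; exact ho)]
    · rw [suppOn_bi c x hx, suppOn_bi c _ fun h => hx ?_]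
      have h' := normalizer_conj_centralizer hk.1 h
      rwa [show k * (k⁻¹ * x * k) * k⁻¹ = x by group] at h'
  have hmoved : IsBelow M (T : Subgroup G) c (k * y * k⁻¹) (conjSet _ _ k fy) := by
    refine ⟨IsPBlock.conjSet (isConjSub_zpowers k y) hfy.1, ?_⟩
    have h2 := congrArg (cj k) hfy.2
    rw [cj_mul, cj_br, map_conj_of_mem_normalizer hk.1, hct, ← bi_conjSet (isConjSub_zpowers k y)] at h2
    exact h2
  have heq := hfy'.unique hM hc.1 hab hyT' hmoved
  rw [heq, bi_conjSet (isConjSub_zpowers k y), cj_cj] at hgf'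
  refine (bi_injective hM hi₀.1 hi.1 ?_).symm
  rw [← hgf']
  have hh : g' * k * g⁻¹ ∈ Subgroup.centralizer (Subgroup.zpowers t : Set G) := by
    rw [centralizer_zpowers, Subgroup.mem_centralizer_singleton_iff]
    refine mul_inv_eq_iff_eq_mul.1 ?_
    calc g' * k * g⁻¹ * t * (g' * k * g⁻¹)⁻¹ = g' * (k * (g⁻¹ * t * g) * k⁻¹) * g'⁻¹ := by group
      _ = g' * (k * y * k⁻¹) * g'⁻¹ := by
          rw [show g⁻¹ * t * g = y by nth_rewrite 1 [← hgy]; group]
      _ = t := hgy'
  calc cj (g' * k) (bi M _ fy) = cj (g' * k * g⁻¹) (cj g (bi M _ fy)) := by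
        rw [cj_cj, inv_mul_cancel_right]
    _ = cj (g' * k * g⁻¹) (bi M _ b) := by rw [hgf]
    _ = bi M _ b := invOn_iff.1 (invOn_bi b) _ hh

end Cfsg.Lib.Ree.Twist
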