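import Cfsg.Agent.Ree.Twist.Principal
import Cfsg.Agent.Ree.Twist.Separation
import Cfsg.Agent.Ree.Twist.Coords
import Cfsg.Agent.Chars.Quotient
import Cfsg.Agent.Ree.Section.Block

/-!
The section of the involution: the blocks `B_μ` of the group over `μ b₀(E)` and the values of the characters on
`t E`.
-/

set_option autoImplicit false
set_option linter.style.haveILetI false
set_option linter.unusedSectionVars false

namespace Cfsg.Lib.Ree.Twist

open Cfsg Cfsg.Lib.Chars Cfsg.Lib.Blocks
open scoped ComplexConjugate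

universe u v

variable {G : Type u} [Group G] [Fintype G] {t : G} {E E₀ : Subgroup G} [Fintype E] {F : Type v} [Field F]
  [Fintype F] (S : Setting t E E₀ F)
include S

theorem Setting.equivC_mul (b b' : Bool) (e e' : E) :
    S.equivC (b ^^ b', e * e') = S.equivC (b, e) * S.equivC (b', e') := by
  refine Subtype.ext ?_
  rw [Subgroup.coe_mul, S.equivC_apply, S.equivC_apply, S.equivC_apply]
  have h := (S.hyp.comm _ e.2).eq
  have h2 : (if b then t else 1) * (e : G) * ((if b' then t else 1) * (e' : G)) =
      (if b then t else 1) * (if b' then t else 1) * ((e : G) * e') := by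
    cases b' <;> simp only [Bool.false_eq_true, if_false, if_true, one_mul, mul_one, mul_assoc]
    rw [← mul_assoc (e : G) t, ← h, mul_assoc t]
  rw [h2, Subgroup.coe_mul]
  congr 1
  cases b <;> cases b' <;> simp [S.tt]

/-- The projection of the centralizer onto `E`. -/
noncomputable def Setting.proj : ↥(Subgroup.centralizer ({t} : Set G)) →* E :=
  MonoidHom.mk' (fun x => (S.equivC.symm x).2) fun x x' => by
    show (S.equivC.symm (x * x')).2 = (S.equivC.symm x).2 * (S.equivC.symm x').2
    rw [show S.equivC.symm (x * x') = ((S.equivC.symm x).1 ^^ (S.equivC.symm x').1,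
        (S.equivC.symm x).2 * (S.equivC.symm x').2) by
      rw [Equiv.symm_apply_eq, S.equivC_mul, Prod.mk.eta, Prod.mk.eta, Equiv.apply_symm_apply,
        Equiv.apply_symm_apply]]

theorem Setting.proj_equivC (w : Bool × E) : S.proj (S.equivC w) = w.2 := by
  show (S.equivC.symm (S.equivC w)).2 = w.2
  rw [Equiv.symm_apply_apply]

theorem Setting.proj_incl (e : E) : S.proj (Subgroup.inclusion S.E_le_C e) = e := by
  rw [show Subgroup.inclusion S.E_le_C e = S.equivC (false, e) from Subtype.ext (by
    rw [S.equivC_apply]; simp), S.proj_equivC]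

theorem Setting.proj_surjective : Function.Surjective S.proj := fun e => ⟨_, S.proj_incl e⟩

theorem Setting.commute_iff (x h : Subgroup.centralizer ({t} : Set G)) :
    x * h = h * x ↔ S.proj x * S.proj h = S.proj h * S.proj x := by
  obtain ⟨⟨b, e⟩, rfl⟩ := S.equivC.surjective x
  obtain ⟨⟨b', e'⟩, rfl⟩ := S.equivC.surjective h
  rw [← S.equivC_mul, ← S.equivC_mul, S.equivC.injective.eq_iff, S.proj_equivC, S.proj_equivC,
    Prod.mk.injEq, Bool.xor_comm b b', eq_self_iff_true, true_and]

theorem Setting.centralChar_proj (f : E → ℂ) (h : Subgroup.centralizer ({t} : Set G)) :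
    centralChar (fun x => f (S.proj x)) h = centralChar f (S.proj h) := by
  unfold centralChar
  simp only [map_one]
  rw [show Subgroup.centralizer ({h} : Set ↥(Subgroup.centralizer ({t} : Set G))) =
      (Subgroup.centralizer ({S.proj h} : Set E)).comap S.proj by
    ext x
    rw [Subgroup.mem_comap, Subgroup.mem_centralizer_singleton_iff, Subgroup.mem_centralizer_singleton_iff]
    exact S.commute_iff x h,
    Subgroup.index_comap_of_surjective _ (f := S.proj) S.proj_surjective]

/-- An irreducible character of `E` on the centralizer. -/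
noncomputable def Setting.infl (θ : IrrCharacter E) : IrrCharacter (Subgroup.centralizer ({t} : Set G)) :=
  ⟨fun x => (θ : E → ℂ) (S.proj x), IsIrrCharacter.comp_surjective θ.2 S.proj S.proj_surjective⟩

theorem Setting.infl_apply (θ : IrrCharacter E) (x : Subgroup.centralizer ({t} : Set G)) :
    (S.infl θ : ↥(Subgroup.centralizer ({t} : Set G)) → ℂ) x = (θ : E → ℂ) (S.proj x) := rfl

theorem Setting.infl_mem_iff (M : Ideal AlgInt) (μ : E →* ℂˣ) (θ : IrrCharacter E) :
    S.infl θ ∈ linBlock M (μ.comp S.proj) ↔ θ ∈ linBlock M μ := by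
  show SameBlock M _ _ ↔ SameBlock M _ _
  have h1 : ∀ x, centralChar (fun y : ↥(Subgroup.centralizer ({t} : Set G)) => ((μ.comp S.proj) y : ℂ)) x =
      centralChar (fun e : E => (μ e : ℂ)) (S.proj x) := fun x => S.centralChar_proj (fun e => (μ e : ℂ)) x
  constructor
  · intro h e
    obtain ⟨x, rfl⟩ := S.proj_surjective e
    have h' := h x
    rw [h1, show (S.infl θ : ↥(Subgroup.centralizer ({t} : Set G)) → ℂ) = fun y => (θ : E → ℂ) (S.proj y) from rfl,
      S.centralChar_proj] at h'
    exact h'
  · intro h x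
    rw [h1, show (S.infl θ : ↥(Subgroup.centralizer ({t} : Set G)) → ℂ) = fun y => (θ : E → ℂ) (S.proj y) from rfl,
      S.centralChar_proj]
    exact h _

theorem Setting.sectVal_class (χ : IrrCharacter G) : IsClassFunction E (sectVal t E χ) := by
  intro a h
  show (χ : G → ℂ) (t * ((h * a * h⁻¹ : E) : G)) = (χ : G → ℂ) (t * (a : G))
  rw [show t * ((h * a * h⁻¹ : E) : G) = (h : G) * (t * a) * (h : G)⁻¹ by
    push_cast
    rw [← mul_assoc, ← mul_assoc, (S.hyp.comm _ h.2).eq, mul_assoc (h : G) t]]
  exact isClassFunction_irr χ _ _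

/-- The part at `μ b₀` of the centralizer. -/
theorem Setting.blockPart_eq {M : Ideal AlgInt} (hM : IsPModular 2 M) (μ : E →* ℂˣ) (K : KTable E M)
    [Fintype (Subgroup.centralizer ({t} : Set G))] (χ : IrrCharacter G) {e : E} (he : Odd (orderOf e)) :
    blockPart (linBlock M (μ.comp S.proj))
        (fun c : Subgroup.centralizer ({t} : Set G) => (χ : G → ℂ) (t * (c : G))) (Subgroup.inclusion S.E_le_C e) =
      (μ e : ℂ) * (-coord t E χ (twist μ K.x) + coord t E χ (twist μ K.al) * K.A e +
        coord t E χ (twist μ K.be) * K.B e) := by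
  classical
  set H := Subgroup.centralizer ({t} : Set G)
  have hb : IsPBlock M (linBlock M (μ.comp S.proj)) := isPBlock_linBlock M _
  have hreg : ¬ 2 ∣ orderOf (Subgroup.inclusion S.E_le_C e) := by
    rw [← Subgroup.orderOf_coe]
    exact S.not_dvd he
  have hc : ∀ f : E → ℂ, coord t E χ (twist μ f) = classInner (twist μ⁻¹ (sectVal t E χ)) f := fun f => by
    conv_lhs => rw [coord, ← twist_inv_twist μ (sectVal t E χ)]
    exact inner_twist μ _ _
  rw [hc, hc, hc, ← K.block_formula _ he, ← blockPart_linBlock μ,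
    blockPart_congr_regular hM hb
    (θ' := fun c => ∑ θ : IrrCharacter E, classInner (sectVal t E χ) (θ : E → ℂ) * (S.infl θ : H → ℂ) c)
    (fun c hc => ?_) hreg, blockPart_sum_smul, blockPart_eq_sum, Finset.sum_filter]
  · refine Finset.sum_congr rfl fun θ _ => ?_
    rw [blockPart_eq_sum, Finset.sum_congr rfl fun ψ _ => by
      rw [classInner_irrCharacter, ite_mul, one_mul, zero_mul], Finset.sum_ite_eq]
    simp only [Finset.mem_filter, Finset.mem_univ, true_and, mul_ite, mul_zero, S.infl_apply, S.proj_incl]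
    exact if_congr (S.infl_mem_iff M μ θ) rfl rfl
  · have hodd : Odd (orderOf (c : G)) := by
      rw [Subgroup.orderOf_coe, Nat.odd_iff, ← Nat.two_dvd_ne_zero]
      exact hc
    have hcE := S.odd_mem (S.mem_C.1 c.2) hodd
    have hp : S.proj c = ⟨(c : G), hcE⟩ := by
      have h := S.proj_incl ⟨(c : G), hcE⟩
      rwa [show Subgroup.inclusion S.E_le_C ⟨(c : G), hcE⟩ = c from rfl] at h
    simp only [S.infl_apply, hp]
    exact classFunction_expand_apply (S.sectVal_class χ) ⟨(c : G), hcE⟩

/-- The block of the centralizer at `μ`. -/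
def Setting.IsBlk (M : Ideal AlgInt) (μ : E →* ℂˣ) (B : Set (IrrCharacter G)) : Prop :=
  IsInducedBlock M (Subgroup.centralizer ({t} : Set G)) (linBlock M (μ.comp S.proj)) B

theorem Setting.exists_blk {M : Ideal AlgInt} (hM : IsPModular 2 M) (μ : E →* ℂˣ) : ∃ B, S.IsBlk M μ B := by
  letI := Fintype.ofFinite (Subgroup.centralizer ({t} : Set G))
  exact inducedBlockDefined_of_eq_centralizer hM (Q := Subgroup.zpowers t)
    (IsPGroup.of_card (n := 1) (by rw [Nat.card_zpowers, S.hyp.ord, pow_one])) (centralizer_zpowers t).symm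
    (isPBlock_linBlock M _)

theorem Setting.blk_defect {M : Ideal AlgInt} (hM : IsPModular 2 M) (μ : E →* ℂˣ) :
    blockDefect 2 (linBlock M (μ.comp S.proj)) = 3 := by
  haveI : Fact (Nat.Prime 2) := ⟨Nat.prime_two⟩
  letI := Fintype.ofFinite (Subgroup.centralizer ({t} : Set G))
  obtain ⟨T, a, b, n, hy⟩ := AbCentMax.exists_sys S.hyp S.ab
  rw [blockDefect_linBlock hM]
  have hG : (Nat.card G).factorization 2 = 3 := Nat.pow_right_injective le_rfl (by
    show 2 ^ (Nat.card G).factorization 2 = 2 ^ 3
    rw [← T.card_eq_multiplicity, S.card_T hy])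
  have h := congrArg (fun m : ℕ => m.factorization 2)
    (Subgroup.card_mul_index (Subgroup.centralizer ({t} : Set G)))
  simp only [Nat.factorization_mul Nat.card_pos.ne' Subgroup.index_ne_zero_of_finite, Finsupp.add_apply,
    Nat.factorization_eq_zero_of_not_dvd (Nat.two_dvd_ne_zero.2 (Nat.odd_iff.1 S.index_odd)), add_zero, hG] at h
  exact h

theorem Setting.blk_unique {M : Ideal AlgInt} (hM : IsPModular 2 M) {μ : E →* ℂˣ} {B : Set (IrrCharacter G)}
    (hB : S.IsBlk M μ B) {b : Set (IrrCharacter (Subgroup.centralizer ({t} : Set G)))}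
    (hb : IsInducedBlock M (Subgroup.centralizer ({t} : Set G)) b B) : b = linBlock M (μ.comp S.proj) :=
  S.separated hM (centralizer_zpowers t).symm (S.blk_defect hM μ) hB hb

/-- Different characters of `E/E₀` give different blocks. -/
theorem Setting.blk_injective {M : Ideal AlgInt} (hM : IsPModular 2 M) {μ ν : E →* ℂˣ}
    (hμ : ∀ e : E, (e : G) ∈ E₀ → μ e = 1) (hν : ∀ e : E, (e : G) ∈ E₀ → ν e = 1) {B : Set (IrrCharacter G)}
    (h₁ : S.IsBlk M μ B) (h₂ : S.IsBlk M ν B) : μ = ν := by
  classical
  letI := Fintype.ofFinite (Subgroup.centralizer ({t} : Set G))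
  have e := S.blk_unique hM h₁ h₂
  let θ : IrrCharacter E := ⟨_, isIrrCharacter_linear ν⟩
  have h : θ ∈ linBlock M μ := by
    rw [← S.infl_mem_iff, ← e, S.infl_mem_iff]
    exact mem_blockOf_self hM θ
  rw [mem_linBlock] at h
  have hone := S.eq_one_of_principal hM (μ := μ⁻¹ * ν)
    (fun e he => by simp [hμ e he, hν e he]) (by
      rw [show (⟨_, isIrrCharacter_linear (μ⁻¹ * ν)⟩ : IrrCharacter E) = twistIrr μ⁻¹ θ from Subtype.ext (by
        funext y; simp [twistIrr, twist, θ])]
      exact h)
  refine MonoidHom.ext fun x => ?_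
  have hx := DFunLike.congr_fun hone x
  simp only [MonoidHom.mul_apply, MonoidHom.inv_apply, MonoidHom.one_apply] at hx
  exact inv_mul_eq_one.1 hx

theorem Setting.blk_one {M : Ideal AlgInt} (hM : IsPModular 2 M) : S.IsBlk M 1 (principalBlock M G) := by
  classical
  haveI : Fact (Nat.Prime 2) := ⟨Nat.prime_two⟩
  letI := Fintype.ofFinite (Subgroup.centralizer ({t} : Set G))
  obtain ⟨B, hB⟩ := S.exists_blk hM 1
  have hp : IsInducedBlock M (Subgroup.centralizer ({t} : Set G)) (principalBlock M _) B := by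
    rw [← linBlock_one]; exact hB
  have e : B = principalBlock M G :=
    IsInducedBlock.unique hM hp ((isInducedBlock_principal_iff hM (Subgroup.centralizer ({t} : Set G)) ⟨_, hp⟩).2 rfl)
  exact e ▸ hB

/-- **The values on `t E` inside `B_μ`.** -/
theorem Setting.value_inside {M : Ideal AlgInt} (hM : IsPModular 2 M) {μ : E →* ℂˣ} {B : Set (IrrCharacter G)}
    (hB : S.IsBlk M μ B) (K : KTable E M) {χ : IrrCharacter G} (hχ : χ ∈ B) {y : E} (hy : Odd (orderOf y)) :
    (χ : G → ℂ) (t * (y : G)) = (μ y : ℂ) * (-coord t E χ (twist μ K.x) + coord t E χ (twist μ K.al) * K.A y +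
      coord t E χ (twist μ K.be) * K.B y) := by
  classical
  haveI : Fact (Nat.Prime 2) := ⟨Nat.prime_two⟩
  set H := Subgroup.centralizer ({t} : Set G) with hHdef
  letI := Fintype.ofFinite H
  have hH : H = Subgroup.centralizer (Subgroup.zpowers t : Set G) := (centralizer_zpowers t).symm
  have hx : ∃ k : ℕ, orderOf t = 2 ^ k := ⟨1, by rw [S.hyp.ord, pow_one]⟩
  have hreg : ¬ 2 ∣ orderOf (Subgroup.inclusion S.E_le_C y) := by
    rw [← Subgroup.orderOf_coe]; exact S.not_dvd hy
  rw [← S.blockPart_eq hM μ K χ hy]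
  have h := apply_mul_eq_sum_blockPart hM hx hH hB.2.1 hχ hreg
  rw [show (y : G) = ((Subgroup.inclusion S.E_le_C y : H) : G) from rfl, h, Finset.sum_eq_single (linBlock M (μ.comp S.proj))]
  · intro b hb hne
    exact absurd (S.blk_unique hM hB (Finset.mem_filter.1 hb).2) hne
  · intro hnot
    exact absurd (Finset.mem_filter.2 ⟨(mem_blocksFinset hM).2 hB.1, hB⟩) hnot

/-- **Outside `B_μ` the coordinates vanish.** -/
theorem Setting.coord_outside {M : Ideal AlgInt} (hM : IsPModular 2 M) {μ : E →* ℂˣ} {B : Set (IrrCharacter G)}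
    (hB : S.IsBlk M μ B) (K : KTable E M) {χ : IrrCharacter G} (hχ : χ ∉ B) :
    coord t E χ (twist μ K.x) = 0 ∧ coord t E χ (twist μ K.al) = 0 ∧ coord t E χ (twist μ K.be) = 0 := by
  classical
  haveI : Fact (Nat.Prime 2) := ⟨Nat.prime_two⟩
  set H := Subgroup.centralizer ({t} : Set G) with hHdef
  letI := Fintype.ofFinite H
  have hH : H = Subgroup.centralizer (Subgroup.zpowers t : Set G) := (centralizer_zpowers t).symm
  have hx : ∃ k : ℕ, orderOf t = 2 ^ k := ⟨1, by rw [S.hyp.ord, pow_one]⟩
  have key : ∀ y : E, Odd (orderOf y) → -coord t E χ (twist μ K.x) + coord t E χ (twist μ K.al) * K.A y +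
      coord t E χ (twist μ K.be) * K.B y = 0 := fun y hy => by
    have hreg : ¬ 2 ∣ orderOf (Subgroup.inclusion S.E_le_C y) := by
      rw [← Subgroup.orderOf_coe]; exact S.not_dvd hy
    refine (mul_eq_zero.1 ?_).resolve_left (Units.ne_zero (μ y))
    rw [← S.blockPart_eq hM μ K χ hy]
    refine blockPart_translate_eq_zero hM hx hH (isPBlock_blockOf χ) (mem_blockOf_self hM χ)
      (isPBlock_linBlock M _) (fun h => hχ ?_) _ hreg
    rw [IsInducedBlock.unique hM hB h]
    exact mem_blockOf_self hM χ
  generalize coord t E χ (twist μ K.x) = a at key ⊢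
  generalize coord t E χ (twist μ K.al) = b at key ⊢
  generalize coord t E χ (twist μ K.be) = c at key ⊢
  have pair : ∀ f : E → ℂ, IsSpecial f → -a * conj (classInner f (fun _ : E => 1)) +
      b * classInner K.A f + c * classInner K.B f = 0 := by
    intro f hf
    rw [classInner_conj_symm, ← classInner_smul_left, ← classInner_smul_left, ← classInner_smul_left,
      ← classInner_add_left, ← classInner_add_left, classInner_def, Finset.sum_eq_zero, mul_zero]
    intro y _
    by_cases hy : Odd (orderOf y)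
    · simp only [Pi.add_apply, Pi.smul_apply, smul_eq_mul, mul_one, key y hy, zero_mul]
    · rw [hf.2.2 y hy]; simp
  obtain ⟨d1, d2, d3, d4, d5, d6⟩ := K.duals
  obtain ⟨-, -, -, -, -, -, i1, i2, i3⟩ := K.inners
  have px := pair _ K.special_x
  have pa := pair _ K.special_al
  have pb := pair _ K.special_be
  rw [i1, d1, d4, map_neg, map_one] at px
  rw [i2, d2, d5, map_zero] at pa
  rw [i3, d3, d6, map_zero] at pb
  exact ⟨by linear_combination px, by linear_combination pa, by linear_combination pb⟩

end Cfsg.Lib.Ree.Twist
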