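import Cfsg.Agent.Ree.Twist.Setting
import Mathlib.GroupTheory.GroupAction.Primitive

/-!
The Sylow 2-subgroup through `t`: the part of its normalizer that fixes the elements of odd order of the
centralizer is transitive on the involutions.
-/

set_option autoImplicit false
set_option linter.style.haveILetI false
set_option linter.unusedSectionVars false

namespace Cfsg.Lib.Ree.Twist

open Subgroup

universe u v

variable {G : Type u} [Group G]

/-- The elements of `N(T)` that centralize the elements of odd order of `C(T)`. -/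
def oddFix (T : Subgroup G) : Subgroup G where
  carrier := {k | k ∈ normalizer (T : Set G) ∧ ∀ x ∈ centralizer (T : Set G), Odd (orderOf x) → Commute k x}
  one_mem' := ⟨one_mem _, fun x _ _ => Commute.one_left x⟩
  mul_mem' ha hb := ⟨mul_mem ha.1 hb.1, fun x hx ho => (ha.2 x hx ho).mul_left (hb.2 x hx ho)⟩
  inv_mem' ha := ⟨inv_mem ha.1, fun x hx ho => (ha.2 x hx ho).inv_left⟩

theorem mem_oddFix {T : Subgroup G} {k : G} :
    k ∈ oddFix T ↔ k ∈ normalizer (T : Set G) ∧
      ∀ x ∈ centralizer (T : Set G), Odd (orderOf x) → Commute k x :=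
  Iff.rfl

theorem normalizer_conj_centralizer {T : Subgroup G} {k x : G} (hk : k ∈ normalizer (T : Set G))
    (hx : x ∈ centralizer (T : Set G)) : k * x * k⁻¹ ∈ centralizer (T : Set G) := by
  refine mem_centralizer_iff.2 fun y hy => ?_
  have hy' : k⁻¹ * y * k ∈ T := by
    have := (mem_normalizer_iff.1 (inv_mem hk) y).1 hy
    rwa [inv_inv] at this
  have h := mem_centralizer_iff.1 hx _ hy'
  calc y * (k * x * k⁻¹) = k * (k⁻¹ * y * k * x) * k⁻¹ := by group
    _ = k * (x * (k⁻¹ * y * k)) * k⁻¹ := by rw [h]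
    _ = k * x * k⁻¹ * y := by group

theorem oddFix_conj {T : Subgroup G} {k g : G} (hk : k ∈ oddFix T) (hg : g ∈ normalizer (T : Set G)) :
    g * k * g⁻¹ ∈ oddFix T := by
  refine ⟨mul_mem (mul_mem hg hk.1) (inv_mem hg), fun x hx ho => ?_⟩
  have hx' := normalizer_conj_centralizer (inv_mem hg) hx
  have h := hk.2 _ hx' (by rwa [← MulAut.conj_apply, MulEquiv.orderOf_eq])
  have h' := h.map (MulAut.conj g).toMonoidHom
  simpa [mul_assoc] using h'

variable [Finite G] {t : G} {E E₀ : Subgroup G} {F : Type v} [Field F] [Fintype F] (S : Setting t E E₀ F)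
include S

theorem Setting.odd_mem {x : G} (hx : Commute t x) (ho : Odd (orderOf x)) : x ∈ E := by
  obtain ⟨e, he, rfl | rfl⟩ := S.split hx
  · exact he
  · exfalso
    have hc : Commute t e := S.hyp.comm e he
    obtain ⟨m, hm⟩ := ho
    have h1 : (t * e) ^ orderOf (t * e) = 1 := pow_orderOf_eq_one _
    rw [hc.mul_pow, hm, pow_succ t, pow_mul, show t ^ 2 = 1 by rw [pow_two, S.tt], one_pow, one_mul] at h1
    exact S.split_unique (one_mem E) (pow_mem he (2 * m + 1)) h1.symm

variable {T : Sylow 2 G} {a b n : G} (hy : AbCentMax.Sys t E₀ T a b n)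
include hy

theorem Setting.card_T : Nat.card (T : Subgroup G) = 8 := (AbCentMax.three_dvd S.hyp hy).2

theorem Setting.sq_T {x : G} (hx : x ∈ T) : x * x = 1 := by
  have haa := AbCentMax.aa S.hyp hy
  have hbb := AbCentMax.bb S.hyp hy
  have hv : ∀ v, (v = 1 ∨ v = a ∨ v = b ∨ v = a * b) → v * v = 1 := by
    rintro v (rfl | rfl | rfl | rfl)
    · exact one_mul 1
    · exact haa
    · exact hbb
    · rw [show a * b * (a * b) = a * (b * a) * b by group, (hy.tcomm b hy.bT a hy.aT).eq,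
        show a * (a * b) * b = (a * a) * (b * b) by group, haa, hbb, one_mul]
  obtain ⟨v, hv', rfl | rfl⟩ := hy.cases x hx
  · exact hv _ hv'
  · have hvE : v ∈ E := by
      rcases hv' with rfl | rfl | rfl | rfl
      exacts [one_mem _, S.hyp.le hy.aE, S.hyp.le hy.bE, mul_mem (S.hyp.le hy.aE) (S.hyp.le hy.bE)]
    rw [show t * v * (t * v) = t * (v * t) * v by group, ← (S.hyp.comm v hvE).eq,
      show t * (t * v) * v = (t * t) * (v * v) by group, S.tt, hv _ hv', one_mul]

theorem Setting.n_mem_oddFix : n ∈ oddFix (T : Subgroup G) := by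
  classical
  haveI : Fact (Nat.Prime 2) := ⟨Nat.prime_two⟩
  have hnt : Commute t n := S.hyp.comm n (S.hyp.le hy.nE)
  have hnt' : n * t * n⁻¹ = t := by rw [hnt.symm.eq, mul_inv_cancel_right]
  have hnT : ∀ x ∈ (T : Subgroup G), n * x * n⁻¹ ∈ (T : Subgroup G) := by
    intro x hx
    have hv : ∀ v, (v = 1 ∨ v = a ∨ v = b ∨ v = a * b) → n * v * n⁻¹ ∈ (T : Subgroup G) := by
      rintro v (rfl | rfl | rfl | rfl)
      · simp
      · rw [hy.na]; exact hy.bT
      · rw [hy.nb]; exact mul_mem hy.aT hy.bT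
      · rw [show n * (a * b) * n⁻¹ = (n * a * n⁻¹) * (n * b * n⁻¹) by group, hy.na, hy.nb]
        exact mul_mem hy.bT (mul_mem hy.aT hy.bT)
    obtain ⟨v, hv', rfl | rfl⟩ := hy.cases x hx
    · exact hv _ hv'
    · rw [show n * (t * v) * n⁻¹ = (n * t * n⁻¹) * (n * v * n⁻¹) by group, hnt']
      exact mul_mem hy.tT (hv _ hv')
  have hnN : n ∈ normalizer ((T : Subgroup G) : Set G) :=
    Cfsg.Lib.ZStarApps.mem_normalizer_of_maps hnT
  refine ⟨hnN, fun x hx ho => ?_⟩
  have hxC : ∀ y ∈ T, Commute y x := fun y hy' => mem_centralizer_iff.1 hx y hy'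
  have hxE : x ∈ E := S.odd_mem (hxC t hy.tT) ho
  set w := n * x * n⁻¹ * x⁻¹ with hw
  have hwE : w ∈ E₀ := by
    rw [hw, show n * x * n⁻¹ * x⁻¹ = n * (x * n⁻¹ * x⁻¹) by group]
    exact mul_mem hy.nE (S.hyp.norm x hxE _ (inv_mem hy.nE))
  have hwC : w ∈ centralizer ((T : Subgroup G) : Set G) :=
    mul_mem (normalizer_conj_centralizer hnN hx) (inv_mem hx)
  have hwc : ∀ y ∈ T, Commute y w := fun y hy' => mem_centralizer_iff.1 hwC y hy'
  obtain ⟨u, s, hu, hs, hus, he, hug, hsg⟩ := Cfsg.Lib.TwoTimesPSL.exists_split w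
  have hz : ∀ z ∈ zpowers w, z ∈ E₀ ∧ z ∈ centralizer ((T : Subgroup G) : Set G) := fun z hz =>
    ⟨zpowers_le.2 hwE hz, zpowers_le.2 hwC hz⟩
  have hs1 : s = 1 := S.hyp.eq_one_of_comm hy.aE hy.ao hy.bE hy.bo hy.ne (hy.tcomm a hy.aT b hy.bT)
    (hz s hsg).1 hs (mem_centralizer_iff.1 (hz s hsg).2 a hy.aT).symm
    (mem_centralizer_iff.1 (hz s hsg).2 b hy.bT).symm
  rw [hs1, mul_one] at he
  have hwT : w ∈ T := by
    have hwp : IsPGroup 2 ↥(zpowers w) := by rw [← he]; exact hu.isPGroup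
    have hsup := hwp.to_sup_of_normal_right' T.isPGroup'
      ((zpowers_le.2 (centralizer_le_normalizer _ hwC)))
    have h1 : w ∈ zpowers w ⊔ (T : Subgroup G) := mem_sup_left (mem_zpowers w)
    rwa [T.is_maximal' hsup le_sup_right] at h1
  have hw2 : w * w = 1 := S.sq_T hy hwT
  have hwx : Commute w x := hxC w hwT
  have hwx' : n * x * n⁻¹ = w * x := by rw [hw]; group
  have h1 : (w * x) ^ orderOf x = 1 := by
    rw [← hwx', conj_pow, pow_orderOf_eq_one, mul_one, mul_inv_cancel]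
  obtain ⟨m, hm⟩ := ho
  rw [hwx.mul_pow, pow_orderOf_eq_one, mul_one, hm, pow_succ, pow_mul,
    show w ^ 2 = 1 by rw [pow_two, hw2], one_pow, one_mul] at h1
  rw [h1, one_mul] at hwx'
  exact mul_inv_eq_iff_eq_mul.1 hwx'

/-- The elements fixing the centralizer's elements of odd order move every involution of `T` to every other one. -/
theorem Setting.exists_move {x y : G} (hx : x ∈ T) (hx1 : x ≠ 1) (hyT : y ∈ T) (hy1 : y ≠ 1) :
    ∃ k ∈ oddFix (T : Subgroup G), k * x * k⁻¹ = y := by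
  classical
  set N := normalizer ((T : Subgroup G) : Set G) with hN
  let X := {z : G // z ∈ T ∧ z ≠ 1}
  letI : MulAction N X :=
    { smul := fun g z => ⟨(g : G) * z.1 * (g : G)⁻¹, (mem_normalizer_iff.1 g.2 z.1).1 z.2.1,
        fun e => z.2.2 (conj_eq_one_iff.1 e)⟩
      one_smul := fun z => Subtype.ext (show (1 : G) * z.1 * (1 : G)⁻¹ = z.1 by simp)
      mul_smul := fun g g' z => Subtype.ext (show ((g * g' : N) : G) * z.1 * ((g * g' : N) : G)⁻¹ =
        (g : G) * ((g' : G) * z.1 * (g' : G)⁻¹) * (g : G)⁻¹ by rw [Subgroup.coe_mul]; group) }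
  have hsmul : ∀ (g : N) (z : X), ((g • z : X) : G) = (g : G) * z.1 * (g : G)⁻¹ := fun _ _ => rfl
  have ht1 : t ≠ 1 := S.hyp.t_ne
  haveI := S.simple
  have htr : ∀ z : X, ∃ g : N, g • (⟨t, hy.tT, ht1⟩ : X) = z := by
    intro z
    have ho : orderOf z.1 = 2 := orderOf_eq_prime (by rw [pow_two, S.sq_T hy z.2.1]) z.2.2
    obtain ⟨g, hg⟩ := isConj_iff.1 (S.conj_all ho)
    haveI := S.ab T
    obtain ⟨m, hm, em⟩ := T.conj_eq_normalizer_conj_of_mem t g⁻¹ hy.tT (by rw [inv_inv, hg]; exact z.2.1)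
    rw [inv_inv, hg] at em
    refine ⟨⟨m⁻¹, inv_mem hm⟩, Subtype.ext ?_⟩
    rw [hsmul, em]
    simp
  haveI : MulAction.IsPretransitive N X := ⟨fun z z' => by
    obtain ⟨g, hg⟩ := htr z
    obtain ⟨g', hg'⟩ := htr z'
    exact ⟨g' * g⁻¹, by rw [mul_smul, ← hg, inv_smul_smul, hg']⟩⟩
  have h7 : Nat.card X = 7 := by
    letI := Fintype.ofFinite G
    rw [Nat.subtype_card ((Finset.univ.filter fun z : G => z ∈ T).erase 1) (fun z => by simp [and_comm]),
      Finset.card_erase_of_mem (by simp), show (Finset.univ.filter fun z : G => z ∈ T).card = 8 by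
        rw [← S.card_T hy, ← Fintype.card_subtype, Nat.card_eq_fintype_card]
        exact Fintype.card_congr (Equiv.refl _)]
  haveI : MulAction.IsPreprimitive N X := MulAction.IsPreprimitive.of_prime_card (by rw [h7]; norm_num)
  let K : Subgroup N := (oddFix (T : Subgroup G)).subgroupOf N
  haveI : K.Normal := ⟨fun k hk g => by
    rw [mem_subgroupOf] at hk ⊢
    simpa using oddFix_conj hk g.2⟩
  have hne : MulAction.fixedPoints K X ≠ Set.univ := fun h => by
    have ha1 : a ≠ 1 := fun e => by have := hy.ao; rw [e, orderOf_one] at this; omega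
    have hfix := (h ▸ Set.mem_univ (⟨a, hy.aT, ha1⟩ : X) : (⟨a, hy.aT, ha1⟩ : X) ∈ MulAction.fixedPoints K X)
      ⟨⟨n, (S.n_mem_oddFix hy).1⟩, mem_subgroupOf.2 (S.n_mem_oddFix hy)⟩
    have e : n * a * n⁻¹ = a := congrArg Subtype.val hfix
    rw [hy.na] at e
    exact hy.ne e.symm
  haveI := MulAction.IsQuasiPreprimitive.isPretransitive_of_normal (G := N) (X := X) (N := K) hne
  obtain ⟨k, hk⟩ := MulAction.exists_smul_eq K (⟨x, hx, hx1⟩ : X) ⟨y, hyT, hy1⟩
  exact ⟨(k : N), mem_subgroupOf.1 k.2, congrArg Subtype.val hk⟩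

end Cfsg.Lib.Ree.Twist
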