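import Cfsg.Agent.Ree.Twist.Table

/-!
Blocks multiplied by a linear character.
-/

set_option autoImplicit false
set_option linter.unusedSectionVars false
set_option linter.style.haveILetI false

namespace Cfsg.Lib.Ree.Twist

open Cfsg Cfsg.Lib.Chars Cfsg.Lib.Blocks

universe u

variable {X : Type u} [Group X] [Fintype X]

/-- The product of an irreducible character with a linear one. -/
noncomputable def twistIrr (μ : X →* ℂˣ) (θ : IrrCharacter X) : IrrCharacter X :=
  ⟨twist μ θ, IsIrrCharacter.mul_linear θ.2 μ⟩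

theorem twist_twist (μ ν : X →* ℂˣ) (f : X → ℂ) : twist μ (twist ν f) = twist (μ * ν) f := by
  funext y
  simp only [twist, MonoidHom.mul_apply, Units.val_mul, mul_assoc]

theorem twist_one (f : X → ℂ) : twist (1 : X →* ℂˣ) f = f := by
  funext y
  simp [twist]

theorem hom_mul_inv (μ : X →* ℂˣ) : μ * μ⁻¹ = 1 := MonoidHom.ext fun g => mul_inv_cancel (μ g)

theorem hom_inv_mul (μ : X →* ℂˣ) : μ⁻¹ * μ = 1 := MonoidHom.ext fun g => inv_mul_cancel (μ g)

theorem twist_inv_twist (μ : X →* ℂˣ) (f : X → ℂ) : twist μ (twist μ⁻¹ f) = f := by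
  rw [twist_twist, hom_mul_inv, twist_one]

/-- The bijection of the irreducible characters given by the product with a linear one. -/
noncomputable def twistEquiv (μ : X →* ℂˣ) : IrrCharacter X ≃ IrrCharacter X where
  toFun := twistIrr μ
  invFun := twistIrr μ⁻¹
  left_inv θ := Subtype.ext (by show twist μ⁻¹ (twist μ (θ : X → ℂ)) = _; rw [twist_twist, hom_inv_mul, twist_one])
  right_inv θ := Subtype.ext (twist_inv_twist μ θ)

theorem centralChar_twist (μ : X →* ℂˣ) (f : X → ℂ) (g : X) :
    centralChar (twist μ f) g = (μ g : ℂ) * centralChar f g := by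
  simp only [centralChar, twist, map_one, Units.val_one, one_mul]
  ring

theorem sameBlock_twist {M : Ideal AlgInt} (μ : X →* ℂˣ) {f h : X → ℂ} (hfh : SameBlock M f h) :
    SameBlock M (twist μ f) (twist μ h) := by
  intro g
  obtain ⟨a, b, ha, hb, e⟩ := hfh g
  have hint : IsIntegral ℤ (μ g : ℂ) := by
    refine IsIntegral.of_pow (orderOf_pos g) ?_
    rw [← Units.val_pow_eq_pow_val, ← map_pow, pow_orderOf_eq_one, map_one, Units.val_one]
    exact isIntegral_one
  refine ⟨⟨_, hint⟩ * a, b, M.mul_mem_left _ ha, hb, ?_⟩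
  rw [centralChar_twist, centralChar_twist, ← mul_sub, ← e, MulMemClass.coe_mul, mul_div_assoc]

/-- The principal block times a linear character. -/
noncomputable def linBlock (M : Ideal AlgInt) (μ : X →* ℂˣ) : Set (IrrCharacter X) :=
  blockOf M (fun g => (μ g : ℂ))

theorem isPBlock_linBlock (M : Ideal AlgInt) (μ : X →* ℂˣ) : IsPBlock M (linBlock M μ) :=
  ⟨⟨_, isIrrCharacter_linear μ⟩, rfl⟩

theorem mem_linBlock {M : Ideal AlgInt} (μ : X →* ℂˣ) (θ : IrrCharacter X) :
    θ ∈ linBlock M μ ↔ twistIrr μ⁻¹ θ ∈ principalBlock M X := by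
  show SameBlock M _ (θ : X → ℂ) ↔ SameBlock M _ (twist μ⁻¹ (θ : X → ℂ))
  have e1 : twist μ⁻¹ (fun g => (μ g : ℂ)) = fun _ => 1 := by
    funext g
    simp [twist]
  have e2 : twist μ (fun _ : X => (1 : ℂ)) = fun g => (μ g : ℂ) := by
    funext g
    simp [twist]
  constructor
  · intro h
    have h' := sameBlock_twist μ⁻¹ h
    rwa [e1] at h'
  · intro h
    have h' := sameBlock_twist μ h
    rwa [e2, twist_inv_twist] at h'

theorem linBlock_one (M : Ideal AlgInt) : linBlock M (1 : X →* ℂˣ) = principalBlock M X := by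
  simp [linBlock, principalBlock]

/-- The part at the twisted block. -/
theorem blockPart_linBlock {M : Ideal AlgInt} (μ : X →* ℂˣ) (f : X → ℂ) (y : X) :
    blockPart (linBlock M μ) f y = (μ y : ℂ) * blockPart (principalBlock M X) (twist μ⁻¹ f) y := by
  classical
  rw [blockPart_eq_sum, blockPart_eq_sum, Finset.mul_sum, Finset.sum_filter, Finset.sum_filter,
    ← (twistEquiv μ).sum_comp]
  refine Finset.sum_congr rfl fun θ _ => ?_
  have hm : twistEquiv μ θ ∈ linBlock M μ ↔ θ ∈ principalBlock M X := by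
    rw [mem_linBlock, show twistIrr μ⁻¹ (twistEquiv μ θ) = θ from (twistEquiv μ).left_inv θ]
  refine ite_congr (propext hm) (fun _ => ?_) fun _ => rfl
  have hi : classInner f (twistEquiv μ θ : X → ℂ) = classInner (twist μ⁻¹ f) (θ : X → ℂ) := by
    conv_lhs => rw [← twist_inv_twist μ f]
    exact inner_twist μ _ _
  rw [hi]
  show classInner (twist μ⁻¹ f) (θ : X → ℂ) * ((μ y : ℂ) * (θ : X → ℂ) y) = _
  ring

/-- The twisted principal block has full defect. -/
theorem blockDefect_linBlock {p : ℕ} {M : Ideal AlgInt} (hM : IsPModular p M) (μ : X →* ℂˣ) :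
    blockDefect p (linBlock M μ) = (Nat.card X).factorization p := by
  have hmem : (⟨_, isIrrCharacter_linear μ⟩ : IrrCharacter X) ∈ linBlock M μ :=
    mem_blockOf_self hM (⟨_, isIrrCharacter_linear μ⟩ : IrrCharacter X)
  have h := Nat.sInf_le (s := (fun χ : IrrCharacter X => (charDegree (χ : X → ℂ)).factorization p) ''
    linBlock M μ) ⟨_, hmem, rfl⟩
  simp only [charDegree, map_one, Units.val_one, Complex.one_re, Nat.floor_one, Nat.factorization_one,
    Finsupp.coe_zero, Pi.zero_apply, nonpos_iff_eq_zero] at h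
  rw [blockDefect]
  simp only [charDegree, h, Nat.sub_zero]

end Cfsg.Lib.Ree.Twist
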