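import Cfsg.Agent.EqualOrder.JR.Field

/-!
The Sylow subgroups in the defining characteristic of `PSL(2, q)`: there are `q + 1` of them, each transitive on the
others.
-/

set_option autoImplicit false
set_option linter.unusedSectionVars false
set_option linter.style.haveILetI false

namespace Cfsg.Lib.Ree.Twist

open Subgroup
open scoped Pointwise

universe u v

/-- Abelian self-centralizing Sylow subgroups meet trivially. -/
theorem sylow_count_of_ti {X : Type u} [Group X] [Finite X] {p q : ℕ} [Fact p.Prime]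
    (hti : ∀ P Q : Sylow p X, ∀ x ∈ P, x ∈ Q → x ≠ 1 → P = Q) (hcard : ∀ P : Sylow p X, Nat.card (P : Subgroup X) = q)
    (hX : 2 * Nat.card X = q * (q * q - 1)) (hq : 5 ≤ q) (hodd : Odd q)
    (hnn : ∀ P : Sylow p X, ¬ (P : Subgroup X).Normal) :
    Nat.card (Sylow p X) = q + 1 ∧
      ∀ P Q R : Sylow p X, Q ≠ P → R ≠ P → ∃ x ∈ P, x • Q = R := by
  classical
  letI := Fintype.ofFinite (Sylow p X)
  have hinj : ∀ P Q : Sylow p X, Q ≠ P →
      Function.Injective (fun x : (P : Subgroup X) => (x : X) • Q) := by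
    intro P Q hne x y hxy
    have hN : (y : X)⁻¹ * x ∈ normalizer ((Q : Subgroup X) : Set X) := by
      refine Sylow.smul_eq_iff_mem_normalizer.1 ?_
      have hxy' : (x : X) • Q = (y : X) • Q := hxy
      rw [mul_smul, hxy', inv_smul_smul]
    have hP : (y : X)⁻¹ * x ∈ (P : Subgroup X) := mul_mem (inv_mem y.2) x.2
    have hsup := (P.isPGroup'.to_le (zpowers_le.2 hP)).to_sup_of_normal_right' Q.isPGroup' (zpowers_le.2 hN)
    have hQ : (y : X)⁻¹ * x ∈ (Q : Subgroup X) := by
      have h1 : (y : X)⁻¹ * x ∈ zpowers ((y : X)⁻¹ * x) ⊔ (Q : Subgroup X) := mem_sup_left (mem_zpowers _)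
      rwa [Q.is_maximal' hsup le_sup_right] at h1
    by_contra hne'
    exact hne (hti P Q _ hP hQ fun e => hne' (Subtype.ext (inv_mul_eq_one.1 e).symm)).symm
  set n := Nat.card (Sylow p X) with hn
  have hother : ∀ P : Sylow p X, Nat.card {S : Sylow p X // S ≠ P} = n - 1 := fun P => by
    rw [Nat.card_eq_fintype_card, Fintype.card_subtype_compl, Fintype.card_subtype_eq, hn, Nat.card_eq_fintype_card]
  -- every orbit of `P` away from `P` has `q` elements
  have hdiv : q ∣ n - 1 := by
    obtain ⟨P⟩ : Nonempty (Sylow p X) := inferInstance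
    let W := {Q : Sylow p X // Q ≠ P}
    have hfix : ∀ x ∈ (P : Subgroup X), x • P = P := fun x hx =>
      Sylow.smul_eq_iff_mem_normalizer.2 (le_normalizer hx)
    letI : MulAction (P : Subgroup X) W :=
      { smul := fun x w => ⟨(x : X) • w.1, fun e => w.2 (by
          rw [← inv_smul_smul (x : X) w.1, e, inv_smul_eq_iff, hfix x x.2])⟩
        one_smul := fun w => Subtype.ext (one_smul X w.1)
        mul_smul := fun x y w => Subtype.ext (mul_smul (x : X) (y : X) w.1) }
    letI := Fintype.ofFinite W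
    letI := Fintype.ofFinite (MulAction.orbitRel.Quotient (P : Subgroup X) W)
    have horb : ∀ w : W, Nat.card (MulAction.orbit (P : Subgroup X) w) = q := fun w => by
      rw [← hcard P]
      refine (Nat.card_congr (Equiv.ofBijective (fun x : (P : Subgroup X) =>
        (⟨x • w, MulAction.mem_orbit w x⟩ : MulAction.orbit (P : Subgroup X) w)) ⟨fun x y e => ?_, ?_⟩)).symm
      · exact hinj P w.1 w.2 (congrArg (fun z : MulAction.orbit (P : Subgroup X) w => (z : W).1) e)
      · rintro ⟨_, x, rfl⟩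
        exact ⟨x, rfl⟩
    have h := Nat.card_congr (MulAction.selfEquivSigmaOrbits (P : Subgroup X) W)
    rw [Nat.card_sigma, Finset.sum_congr rfl fun c _ => horb _, Finset.sum_const, smul_eq_mul] at h
    have hW : Nat.card W = n - 1 := hother P
    exact ⟨_, by rw [← hW, h, mul_comm]⟩
  have hcop : Nat.Coprime n q := by
    obtain ⟨P⟩ : Nonempty (Sylow p X) := inferInstance
    rw [← hcard P, hn, P.card_eq_multiplicity]
    exact Nat.Coprime.pow_right _ (Nat.coprime_comm.1 ((Fact.out : p.Prime).coprime_iff_not_dvd.2 (not_dvd_card_sylow p X)))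
  have hnX : n ∣ Nat.card X := by
    obtain ⟨P⟩ : Nonempty (Sylow p X) := inferInstance
    rw [hn, P.card_eq_index_normalizer]; exact Subgroup.index_dvd_card _
  have hn1 : n ≠ 1 := fun e => by
    obtain ⟨P⟩ : Nonempty (Sylow p X) := inferInstance
    exact hnn P (normalizer_eq_top_iff.1 (index_eq_one.1 (P.card_eq_index_normalizer ▸ e)))
  have hnq : n = q + 1 := by
    have hm : n ∣ q * q - 1 := hcop.dvd_of_dvd_mul_left (hX ▸ hnX.mul_left 2)
    have hn0 : 1 ≤ n := Nat.card_pos
    obtain ⟨k, hk⟩ := hdiv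
    obtain ⟨m, hm'⟩ := hm
    have hqq : 1 ≤ q * q := Nat.one_le_iff_ne_zero.2 (by positivity)
    have hk0 : k ≠ 0 := by rintro rfl; simp at hk; omega
    have hnk : n = q * k + 1 := by omega
    have hm1 : q ∣ m + 1 := by
      have h1 : (q * k + 1) * m + 1 = q * q := by rw [← hnk, ← hm']; omega
      have h2 : q ∣ q * (k * m) + (m + 1) := ⟨q, by rw [← h1]; ring⟩
      exact (Nat.dvd_add_right (dvd_mul_right q _)).1 h2
    obtain ⟨j, hj⟩ := hm1
    have h1 : (q * k + 1) * m + 1 = q * q := by rw [← hnk, ← hm']; omega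
    have hj0 : j ≠ 0 := by rintro rfl; simp at hj
    by_contra hne
    have hk2 : 2 ≤ k := by
      by_contra hk2
      exact hne (by rw [hnk, show k = 1 by omega, mul_one])
    have hm2 : q ≤ m + 1 := hj ▸ Nat.le_mul_of_pos_right q (Nat.pos_of_ne_zero hj0)
    have : (q * 2 + 1) * (q - 1) ≤ (q * k + 1) * m := Nat.mul_le_mul (by nlinarith) (by omega)
    have h3 : (q * 2 + 1) * (q - 1) + 1 ≤ q * q := by omega
    obtain ⟨q', rfl⟩ := Nat.exists_eq_add_of_le hq
    rw [show 5 + q' - 1 = 4 + q' by omega] at h3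
    nlinarith
  refine ⟨hnq, fun P Q R hQ hR => ?_⟩
  have hbij : Function.Bijective (fun x : (P : Subgroup X) =>
      (⟨(x : X) • Q, fun e => hQ (by
        rw [← inv_smul_smul (x : X) Q, e, inv_smul_eq_iff, Sylow.smul_eq_iff_mem_normalizer.2 (le_normalizer x.2)])⟩ :
        {S : Sylow p X // S ≠ P})) := by
    rw [Nat.bijective_iff_injective_and_card]
    refine ⟨fun x y e => hinj P Q hQ (congrArg Subtype.val e), ?_⟩
    rw [hother P, hnq, hcard]
    omega
  obtain ⟨x, hx⟩ := hbij.2 ⟨R, hR⟩
  exact ⟨x, x.2, congrArg Subtype.val hx⟩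

end Cfsg.Lib.Ree.Twist
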